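import Groth.Agent.CurveDiv.HilbProper
import Groth.Agent.FibreDim.DimStalk
import Groth.Agent.FibreDim.Smooth
import Groth.Agent.FibreDim.Semicontinuity
import Groth.Agent.DescentBase.DimEtale

/-!
# The space of divisors of degree `d` on a curve has dimension `d`
-/

set_option autoImplicit false

universe u

open CategoryTheory CategoryTheory.Limits AlgebraicGeometry

namespace Groth.ModelsGraphs.PicDim

open Groth.CurveDiv

theorem localDim_eq_of_isUniversal {k : Type u} [Field k] {X : Scheme.{u}}
    (f : X ⟶ Spec (CommRingCat.of k)) [SmoothOfRelativeDimension 1 f] [IsSeparated f]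
    (hrep : ∀ e : ℕ, HilbD.Representable f e) :
    ∀ (d : ℕ) (H : Over (Spec (CommRingCat.of k))) (Z : HilbD.Obj f d H),
      HilbD.IsUniversal f d H Z → ∀ y : H.left, FlatMor.localDim H.left y = d := by
  intro d
  induction d with
  | zero =>
    intro H Z hZ y
    haveI := isIso_of_isUniversal_zero f hZ
    haveI : Etale H.hom := inferInstance
    rw [Nat.cast_zero, Groth.DescentBase.localDim_eq_of_etale H.hom y]
    exact localDim_spec_field k _
  | succ d ih =>
    intro H' Z' hZ' y'
    obtain ⟨H, Z, hZ⟩ := hrep d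
    haveI := Groth.CurveDiv.smooth_of_isUniversal f hrep d H Z hZ
    haveI := Groth.CurveDiv.smooth_of_isUniversal f hrep (d + 1) H' Z' hZ'
    haveI : IsLocallyNoetherian H.left := LocallyOfFiniteType.isLocallyNoetherian H.hom
    haveI : IsLocallyNoetherian H'.left := LocallyOfFiniteType.isLocallyNoetherian H'.hom
    obtain ⟨m, hm, ⟨h1, h2, h3⟩, hs⟩ := exists_addPoint f hZ hZ'
    haveI := hs
    obtain ⟨t, rfl⟩ := m.surjective y'
    haveI := smoothOfRelativeDimension_isStableUnderBaseChange.{u} (n := 1)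
    haveI : SmoothOfRelativeDimension 1 (pullback.fst H.hom f) :=
      MorphismProperty.pullback_fst (P := @SmoothOfRelativeDimension 1) _ _ ‹_›
    haveI : Smooth (pullback.fst H.hom f) := SmoothOfRelativeDimension.smooth 1 _
    have e1 := Groth.FibreDim.localDim_eq_add_of_flat (pullback.fst H.hom f) 1
      (Groth.FibreDim.fibreDimAt_eq_of_smoothOfRelativeDimension 1 _) t
    have e2 := Groth.FibreDim.localDim_eq_add_of_flat m 0
      (fun x => by rw [Groth.FibreDim.fibreDimAt_eq_zero_of_locallyQuasiFinite, Nat.cast_zero]) t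
    rw [Nat.cast_zero, add_zero] at e2
    rw [← e2, e1, ih H Z hZ, Nat.cast_succ]
    simp

/-- Representability, properness, smoothness and dimension of the divisors of degree `d`. -/
theorem exists_proper_smooth_dim (k : Type u) [Field k] (X : Scheme.{u})
    (f : X ⟶ Spec (CommRingCat.of k)) (hX : Curve.IsSmoothProperCurve k X f) (d : ℕ) :
    ∃ (H : Over (Spec (CommRingCat.of k))) (Z : HilbD.Obj f d H),
      HilbD.IsUniversal f d H Z ∧ IsProper H.hom ∧ Smooth H.hom ∧
        ∀ y : H.left, FlatMor.localDim H.left y = d := by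
  obtain ⟨hp, hs, hi, hdim⟩ := hX
  haveI := smoothOfRelativeDimension_one_of_curve f hdim
  have hrep : ∀ e : ℕ, HilbD.Representable f e := fun e => by
    obtain ⟨H, Z, hZ, -⟩ := exists_proper_smooth k X f ⟨hp, hs, hi, hdim⟩ e
    exact ⟨H, Z, hZ⟩
  obtain ⟨H, Z, hZ, hpr, hsm⟩ := exists_proper_smooth k X f ⟨hp, hs, hi, hdim⟩ d
  exact ⟨H, Z, hZ, hpr, hsm, localDim_eq_of_isUniversal f hrep d H Z hZ⟩

end Groth.ModelsGraphs.PicDim

namespace Groth.ModelsGraphs.PicDim

open Groth.CurveDiv

/-- The space of divisors of given degree on a geometrically connected curve is connected. -/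
theorem connectedSpace_of_isUniversal {k : Type u} [Field k] {X : Scheme.{u}}
    (f : X ⟶ Spec (CommRingCat.of k)) [SmoothOfRelativeDimension 1 f] [IsSeparated f]
    [GeometricallyConnected f] (hrep : ∀ e : ℕ, HilbD.Representable f e) :
    ∀ (d : ℕ) (H : Over (Spec (CommRingCat.of k))) (Z : HilbD.Obj f d H),
      HilbD.IsUniversal f d H Z → ConnectedSpace H.left := by
  haveI : Smooth f := SmoothOfRelativeDimension.smooth 1 f
  intro d
  induction d with
  | zero =>
    intro H Z hZ
    haveI := isIso_of_isUniversal_zero f hZ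
    exact H.hom.homeomorph.symm.surjective.connectedSpace H.hom.homeomorph.symm.continuous
  | succ d ih =>
    intro H' Z' hZ'
    obtain ⟨H, Z, hZ⟩ := hrep d
    haveI := ih H Z hZ
    obtain ⟨m, -, -, hs⟩ := exists_addPoint f hZ hZ'
    haveI := hs
    haveI : ConnectedSpace ↥(pullback H.hom f) := inferInstance
    exact m.surjective.connectedSpace m.continuous

/-- Representability, properness, smoothness, connectedness and dimension. -/
theorem exists_proper_smooth_connected (k : Type u) [Field k] (X : Scheme.{u})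
    (f : X ⟶ Spec (CommRingCat.of k)) [GeometricallyConnected f]
    (hX : Curve.IsSmoothProperCurve k X f) (d : ℕ) :
    ∃ (H : Over (Spec (CommRingCat.of k))) (Z : HilbD.Obj f d H),
      HilbD.IsUniversal f d H Z ∧ IsProper H.hom ∧ ConnectedSpace H.left := by
  obtain ⟨hp, hs, hi, hdim⟩ := hX
  haveI := smoothOfRelativeDimension_one_of_curve f hdim
  have hrep : ∀ e : ℕ, HilbD.Representable f e := fun e => by
    obtain ⟨H, Z, hZ, -⟩ := exists_proper_smooth k X f ⟨hp, hs, hi, hdim⟩ e
    exact ⟨H, Z, hZ⟩
  obtain ⟨H, Z, hZ, hpr, -⟩ := exists_proper_smooth k X f ⟨hp, hs, hi, hdim⟩ d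
  exact ⟨H, Z, hZ, hpr, connectedSpace_of_isUniversal f hrep d H Z hZ⟩

end Groth.ModelsGraphs.PicDim
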