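import Groth.Agent.ModelsGraphs.PicDim.TorsSep
import Groth.Agent.AbVarMul.Isogeny

/-!
# The degree on the Picard group of a curve over an algebraically closed field
-/

set_option autoImplicit false

universe u

open CategoryTheory CategoryTheory.Limits MonoidalCategory CartesianMonoidalCategory MonObj AlgebraicGeometry
  TopologicalSpace Opposite
open Groth.Abvar.PicCalc
open Groth.PicCurve

set_option maxHeartbeats 1600000
set_option backward.isDefEq.respectTransparency false
set_option backward.defeqAttrib.useBackward true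
set_option backward.isDefEq.respectTransparency.types false

namespace Groth.ModelsGraphs.PicDim

variable {k : Type u} [Field k] {X : Scheme.{u}} {f : X ⟶ Spec (CommRingCat.of k)}
  {σ : Spec (CommRingCat.of k) ⟶ X}

instance isIso_TK_self : IsIso (TK k k).hom := by
  show IsIso (Spec.map (CommRingCat.ofHom (algebraMap k k)))
  rw [show CommRingCat.ofHom (algebraMap k k) = 𝟙 _ from rfl, Spec.map_id]
  infer_instance

theorem deg0_mul (hf : IsPtCurve f) (a b : PicLoc.PicSet X) : deg0 f (a * b) = deg0 f a + deg0 f b := by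
  let t : (TK k k).left := IsLocalRing.closedPoint k
  rw [← degC_fst hf (T := TK k k) (a * b) t, ← degC_fst hf (T := TK k k) a t, ← degC_fst hf (T := TK k k) b t,
    ← degC_mulT hf]
  unfold tw
  rw [map_mul]

/-- Classes of degree zero are divisible. -/
theorem exists_root_of_deg0_zero [IsAlgClosed k] (hf : IsPtCurve f) (hσ : σ ≫ f = 𝟙 _) {n : ℕ} (hn : n ≠ 0)
    {c : PicLoc.PicSet X} (hc : deg0 f c = 0) : ∃ b : PicLoc.PicSet X, b ^ n = c := by
  obtain ⟨J, hG, hC, e, hmul, -, hp, -, hgi, -⟩ := exists_picZero hf hσ
  have := hp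
  have := hgi
  let T := TK k k
  let Φ := ({ e T with map_mul' := hmul T } : (T ⟶ J) ≃* zeroClasses hf σ hσ T)
  let g : T ⟶ J := Φ.symm ⟨tw T c, pic_TK _, fun t => (degC_fst hf c t).trans hc⟩
  let φ : J ⟶ J := 𝟙 J ^ n
  have : Surjective φ.left := Groth.AbVarMul.surjective_pow hn
  have : Surjective (pullback.snd φ.left g.left) := MorphismProperty.pullback_snd (P := @Surjective) _ _ ‹_›
  obtain ⟨y₀, -⟩ := (pullback.snd φ.left g.left).surjective (IsLocalRing.closedPoint k : Spec (CommRingCat.of k))
  let q : pullback φ.left g.left ⟶ Spec (CommRingCat.of k) := pullback.snd φ.left g.left ≫ T.hom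
  have : LocallyOfFiniteType φ.left := by
    have : LocallyOfFiniteType (φ.left ≫ J.hom) := by rw [Over.w φ]; infer_instance
    exact locallyOfFiniteType_of_comp φ.left J.hom
  have : LocallyOfFiniteType q := inferInstance
  have : JacobsonSpace (pullback φ.left g.left : Scheme.{u}) := LocallyOfFiniteType.jacobsonSpace q
  obtain ⟨y, -, hy⟩ := nonempty_inter_closedPoints (Z := (Set.univ : Set (pullback φ.left g.left : Scheme.{u})))
    ⟨y₀, trivial⟩ isOpen_univ.isLocallyClosed
  let s := pointOfClosedPoint q y hy
  have hs : s ≫ q = 𝟙 _ := pointOfClosedPoint_comp q y hy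
  have hs' : T.hom ≫ s ≫ pullback.snd φ.left g.left = 𝟙 T.left := by
    rw [← cancel_mono T.hom, Category.assoc, Category.assoc, Category.id_comp]
    show T.hom ≫ s ≫ q = T.hom
    rw [hs, Category.comp_id]
  let h : T ⟶ J := Over.homMk (T.hom ≫ s ≫ pullback.fst φ.left g.left) (by
    show (T.hom ≫ s ≫ pullback.fst φ.left g.left) ≫ J.hom = T.hom
    rw [← Over.w φ, Category.assoc, Category.assoc, pullback.condition_assoc, Over.w g]
    show T.hom ≫ s ≫ q = T.hom
    rw [hs, Category.comp_id])
  have hhn : h ^ n = g := by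
    have : h ≫ φ = g := by
      refine Over.OverMorphism.ext ?_
      show (T.hom ≫ s ≫ pullback.fst φ.left g.left) ≫ φ.left = g.left
      rw [Category.assoc, Category.assoc, pullback.condition, ← Category.assoc s, ← Category.assoc T.hom,
        hs', Category.id_comp]
    rwa [MonObj.comp_pow, Category.comp_id] at this
  have hiso : IsIso (pullback.fst f T.hom) := inferInstance
  refine ⟨pull (inv (pullback.fst f T.hom)) (Φ h).1, ?_⟩
  rw [← map_pow, ← SubgroupClass.coe_pow, ← map_pow, hhn, MulEquiv.apply_symm_apply]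
  show pull _ (pull _ c) = c
  rw [← pull_comp, IsIso.inv_hom_id, pull_id]

end Groth.ModelsGraphs.PicDim
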