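import Groth.Agent.ModelsGraphs.PicDim.Compat
import Groth.Prelude.Def_AbDual

/-!
# Torsion classes on a smooth proper curve are the torsion points of its Jacobian
-/

set_option autoImplicit false

universe u

open CategoryTheory CategoryTheory.Limits MonoidalCategory CartesianMonoidalCategory MonObj AlgebraicGeometry
  TopologicalSpace Opposite
open Groth.Abvar.PicCalc
open Groth.PicCurve
open Groth.ModelsGraphs.PicDiv (K0 pic_specField)

set_option maxHeartbeats 1600000
set_option backward.isDefEq.respectTransparency false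
set_option backward.defeqAttrib.useBackward true
set_option backward.isDefEq.respectTransparency.types false

namespace Groth.ModelsGraphs.PicDim

variable (k : Type u) [Field k] [IsAlgClosed k]

/-- The Jacobian of a smooth proper curve over an algebraically closed field, with its torsion
points counting the torsion classes. -/
theorem exists_jacobian_torsion (X : Scheme.{u}) [X.Over (Spec (CommRingCat.of k))] [IsIntegral X]
    [IsProper (X ↘ Spec (CommRingCat.of k))] [Smooth (X ↘ Spec (CommRingCat.of k))]
    (hdim : topologicalKrullDim X = 1) :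
    ∃ (J : Over (Spec (CommRingCat.of k))) (_ : GrpObj J) (_ : IsCommMonObj J),
      IsProper J.hom ∧ Smooth J.hom ∧ GeometricallyIntegral J.hom ∧
      topologicalKrullDim J.left = Curv2.genus k X ∧
      ∀ n : ℕ, n ≠ 0 →
        Nat.card {c : PicF.Cl X | ∃ M : X.Modules, PicF.cl M = c ∧ PicF.IsInvertible M ∧
          Nonempty (CohB1.tensorPow M n ≅ Coh.structureModule X)} =
        Nat.card (AbDual.torsPts J n (Over.mk (𝟙 (Spec (CommRingCat.of k))))) := by
  let p := X ↘ Spec (CommRingCat.of k)
  haveI : JacobsonSpace X := LocallyOfFiniteType.jacobsonSpace p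
  obtain ⟨x, -, hx⟩ := nonempty_inter_closedPoints (Z := (Set.univ : Set X)) Set.univ_nonempty
    isOpen_univ.isLocallyClosed
  let σ := pointOfClosedPoint p x hx
  have hσ : σ ≫ p = 𝟙 _ := pointOfClosedPoint_comp p x hx
  have hf : IsPtCurve p := isPtCurve ⟨inferInstance, inferInstance, inferInstance, hdim⟩ σ hσ
  obtain ⟨J, hG, hC, e, hmul, -, h1, h2, h3, h4⟩ := exists_picZero hf hσ
  refine ⟨J, hG, hC, h1, h2, h3, h4.trans ?_, fun n hn => ?_⟩
  · rw [← finrank_H1_eq_genus rfl hf]
    rfl
  let T₀ : Over (Spec (CommRingCat.of k)) := Over.mk (𝟙 _)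
  let q : PicF.XT p T₀ ≅ X :=
    { hom := pullback.fst p T₀.hom
      inv := pullback.lift (𝟙 X) p (by rw [Category.id_comp]; exact (Category.comp_id p).symm)
      hom_inv_id := by
        apply pullback.hom_ext
        · rw [Category.assoc, pullback.lift_fst, Category.comp_id, Category.id_comp]
        · rw [Category.assoc, pullback.lift_snd, Category.id_comp, pullback.condition]
          exact Category.comp_id _
      inv_hom_id := pullback.lift_fst _ _ _ }
  let E : PicLoc.PicSet (PicF.XT p T₀) ≃* PicLoc.PicSet X :=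
    { toFun := pull q.inv
      invFun := pull q.hom
      left_inv := fun c => by rw [← pull_comp, q.hom_inv_id, pull_id]
      right_inv := fun c => by rw [← pull_comp, q.inv_hom_id, pull_id]
      map_mul' := map_mul _ }
  let Φ : (T₀ ⟶ J) ≃* zeroClasses hf σ hσ T₀ := { e T₀ with map_mul' := hmul T₀ }
  have hmem : ∀ c : PicLoc.PicSet (PicF.XT p T₀), c ^ n = 1 → c ∈ zeroClasses hf σ hσ T₀ := by
    intro c hc
    refine ⟨pic_specField _, fun t => ?_⟩
    have := degC_powT hf c n t
    rw [hc, degC_one] at this
    rcases mul_eq_zero.1 this.symm with h | h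
    · exact absurd (by exact_mod_cast h) hn
    · exact h
  let A : AbDual.torsPts J n T₀ ≃ {c : PicLoc.PicSet X // c ^ n = 1} :=
    { toFun := fun g => ⟨E (Φ g.1).1, by
        rw [← map_pow, ← SubgroupClass.coe_pow, ← map_pow, (AbDual.mem_torsPts J g.1).1 g.2, map_one,
          OneMemClass.coe_one, map_one]⟩
      invFun := fun c => ⟨Φ.symm ⟨E.symm c.1, hmem _ (by rw [← map_pow, c.2, map_one])⟩, by
        rw [AbDual.mem_torsPts, ← map_pow, MulEquiv.map_eq_one_iff]
        exact Subtype.ext (by rw [SubgroupClass.coe_pow, ← map_pow, c.2, map_one]; rfl)⟩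
      left_inv := fun g => Subtype.ext (Φ.injective (Subtype.ext (by simp)))
      right_inv := fun c => Subtype.ext (by simp) }
  let B : {c : PicF.Cl X | ∃ M : X.Modules, PicF.cl M = c ∧ PicF.IsInvertible M ∧
      Nonempty (CohB1.tensorPow M n ≅ Coh.structureModule X)} ≃ {c : PicLoc.PicSet X // c ^ n = 1} :=
    { toFun := fun c => ⟨⟨c.1, by obtain ⟨M, h, hM, -⟩ := c.2; exact ⟨M, h, hM⟩⟩, by
        obtain ⟨M, h, hM, he⟩ := c.2
        have : (⟨c.1, ⟨M, h, hM⟩⟩ : PicLoc.PicSet X) = cls hM := Subtype.ext h.symm
        rw [this, ← cls_tensorPow hM n]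
        exact (nonempty_iso_structure_iff _).1 he⟩
      invFun := fun c => ⟨c.1.1, by
        obtain ⟨M, hM, h⟩ := PicGrp.exists_eq_cls c.1
        refine ⟨M, (congrArg Subtype.val h).symm, hM, ?_⟩
        rw [nonempty_iso_structure_iff (Groth.Abvar.PicCalc.isInvertible_tensorPow hM n), cls_tensorPow hM n]
        exact (congrArg (· ^ n) h).symm.trans c.2⟩
      left_inv := fun c => rfl
      right_inv := fun c => rfl }
  exact Nat.card_congr (B.trans A.symm)

end Groth.ModelsGraphs.PicDim
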