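import Groth.Agent.ModelsGraphs.PicDim.Stage
import Mathlib.RingTheory.Etale.Field
import Mathlib.FieldTheory.Galois.Basic
import Mathlib.Topology.JacobsonSpace

/-!
# Galois descent of classes on a pointed curve
-/

set_option autoImplicit false

universe u

open CategoryTheory CategoryTheory.Limits AlgebraicGeometry TopologicalSpace Opposite
open Groth.Abvar.PicCalc
open Groth.PicCurve
open Groth.PicAux.RigDescent (W₂ pr₁ pr₂ appTop_bijective mem_fpqc_XTmap exists_map_eq)

set_option maxHeartbeats 800000
set_option backward.isDefEq.respectTransparency false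
set_option backward.defeqAttrib.useBackward true
set_option backward.isDefEq.respectTransparency.types false

namespace Groth.ModelsGraphs.PicDim

/-- A class trivial on each member of a pairwise disjoint open cover is trivial. -/
theorem eq_one_of_disjoint_cover {Y : Scheme.{u}} {ι : Type u} (U : ι → Y.Opens) (hU : iSup U = ⊤)
    (hdisj : ∀ i j, i ≠ j → U i ⊓ U j = ⊥) (c : PicLoc.PicSet Y) (hc : ∀ i, pull (U i).ι c = 1) :
    c = 1 := by
  obtain ⟨L, hL, rfl⟩ := PicGrp.exists_eq_cls c
  have hs : ∀ i, ∃ s : Γ(L, U i), PicAux.Gen L (U i) s := fun i => by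
    refine (PicAux.nonempty_restrict_iso_iff (U i)).1 ?_
    have h := hc i
    rw [pull_cls, ← nonempty_iso_structure_iff] at h
    exact h.map fun e => (Scheme.Modules.restrictFunctorIsoPullback (U i).ι).app L ≪≫ e
  choose s hs using hs
  obtain ⟨e, -⟩ := PicAux.exists_iso_of_gen hU s hs (M := Coh.structureModule Y)
    (fun i => PicAux.oneSec Y (U i)) (fun i => PicAux.gen_oneSec (U i)) fun i j r hr => by
      rcases eq_or_ne i j with rfl | hne
      · have h1 : r = 1 := (hs i).smul_inj inf_le_left (by
          rw [_root_.one_smul]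
          exact hr.symm)
        rw [h1, _root_.one_smul]
      · have : Subsingleton Γ(Y, U i ⊓ U j) := by
          rw [hdisj i j hne]
          exact CommRingCat.subsingleton_of_isTerminal Y.sheaf.isTerminalOfEmpty
        have h10 : (1 : Γ(Y, U i ⊓ U j)) = 0 := Subsingleton.elim _ _
        rw [← _root_.one_smul Γ(Y, U i ⊓ U j) (PicAux.res _ inf_le_left (PicAux.oneSec Y (U i))), h10,
          zero_smul, Subsingleton.elim r 0, zero_smul]
  exact (nonempty_iso_structure_iff hL).1 ⟨e⟩

variable {k : Type u} [Field k] {X : Scheme.{u}} {f : X ⟶ Spec (CommRingCat.of k)}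
  {σ : Spec (CommRingCat.of k) ⟶ X}

/-- A residue field of a scheme over the field, as a point over the field. -/
noncomputable def resPt (W : Over (Spec (CommRingCat.of k))) (w : W.left) : Over (Spec (CommRingCat.of k)) :=
  Over.mk (W.left.fromSpecResidueField w ≫ W.hom)

/-- The map of a residue field point. -/
noncomputable def resPtι (W : Over (Spec (CommRingCat.of k))) (w : W.left) : resPt W w ⟶ W :=
  Over.homMk (W.left.fromSpecResidueField w) rfl

/-- A class with trivial pullback to every residue field of a discrete reduced base is trivial. -/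
theorem eq_one_of_points (W : Over (Spec (CommRingCat.of k))) [DiscreteTopology W.left] [IsReduced W.left]
    (e : PicLoc.PicSet (PicF.XT f W)) (he : ∀ w : W.left, pull (PicF.XTmap f (resPtι W w)) e = 1) :
    e = 1 := by
  let π := PicF.XTproj f W
  let V : W.left → W.left.Opens := fun w => ⟨{w}, isOpen_discrete _⟩
  refine eq_one_of_disjoint_cover (fun w => π ⁻¹ᵁ V w)
    (top_le_iff.1 fun y _ => Opens.mem_iSup.2 ⟨π y, show π y ∈ ({π y} : Set W.left) from rfl⟩)
    (fun w w' hne => Opens.ext (Set.eq_empty_of_forall_notMem fun y hy => hne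
      ((show π y = w from hy.1).symm.trans hy.2))) e fun w => ?_
  let ρ := W.left.fromSpecResidueField w
  have hr : Set.range ρ ⊆ Set.range (V w).ι := by
    rintro _ ⟨y, rfl⟩
    rw [Scheme.Opens.range_ι]
    exact Scheme.fromSpecResidueField_apply w y
  let a := IsOpenImmersion.lift (V w).ι ρ hr
  have hcl : IsClosedImmersion ρ := isClosed_singleton_iff_isClosedImmersion.1 (isClosed_discrete _)
  have : IsClosedImmersion a := by
    have : IsClosedImmersion (a ≫ (V w).ι) := by rw [IsOpenImmersion.lift_fac]; exact hcl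
    exact IsClosedImmersion.of_comp a (V w).ι
  have : Surjective a := ⟨fun y => ⟨IsLocalRing.closedPoint _, Subtype.ext (by
    have h1 : (V w).ι (a (IsLocalRing.closedPoint _)) = w := by
      rw [← Scheme.Hom.comp_apply, IsOpenImmersion.lift_fac]
      exact Scheme.fromSpecResidueField_apply w _
    exact h1.trans y.2.symm)⟩⟩
  have : IsIso a := isIso_of_isClosedImmersion_of_surjective _
  let m : ↑(π ⁻¹ᵁ V w) ⟶ PicF.XT f (resPt W w) :=
    pullback.lift ((π ⁻¹ᵁ V w).ι ≫ pullback.fst f W.hom) ((π ∣_ V w) ≫ inv a) (by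
      show ((π ⁻¹ᵁ V w).ι ≫ pullback.fst f W.hom) ≫ f = ((π ∣_ V w) ≫ inv a) ≫ ρ ≫ W.hom
      rw [Category.assoc, pullback.condition, Category.assoc, ← Category.assoc (inv a),
        show inv a ≫ ρ = (V w).ι by rw [IsIso.inv_comp_eq, IsOpenImmersion.lift_fac],
        ← Category.assoc (π ∣_ V w), morphismRestrict_ι, Category.assoc])
  have hm : m ≫ PicF.XTmap f (resPtι W w) = (π ⁻¹ᵁ V w).ι := by
    apply pullback.hom_ext
    · rw [Category.assoc, XTmap_fst]
      exact pullback.lift_fst _ _ _
    · rw [Category.assoc]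
      show m ≫ PicF.XTmap f _ ≫ PicF.XTproj f W = _
      rw [XTmap_snd, ← Category.assoc]
      show (m ≫ pullback.snd _ _) ≫ ρ = _
      rw [pullback.lift_snd, Category.assoc,
        show inv a ≫ ρ = (V w).ι by rw [IsIso.inv_comp_eq, IsOpenImmersion.lift_fac], morphismRestrict_ι]
  rw [← hm, pull_comp, he w, map_one]

/-- A map between spectra of extensions comes from an embedding. -/
theorem exists_TKmap {K N : Type u} [Field K] [Field N] [Algebra k K] [Algebra k N] (m : TK k K ⟶ TK k N) :
    ∃ a : N →ₐ[k] K, TKmap a = m := by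
  obtain ⟨φ, hφ⟩ : ∃ φ : CommRingCat.of N ⟶ CommRingCat.of K, Spec.map φ = m.left :=
    ⟨Spec.preimage m.left, Spec.map_preimage _⟩
  have h : CommRingCat.ofHom (algebraMap k N) ≫ φ = CommRingCat.ofHom (algebraMap k K) :=
    Spec.map_injective (by rw [Spec.map_comp, hφ]; exact Over.w m)
  exact ⟨{ φ.hom with commutes' := fun x => congrArg (fun r => r.hom x) h }, Over.OverMorphism.ext hφ⟩

/-- A class fixed by the Galois group descends. -/
theorem exists_descend (hf : IsPtCurve f) (hσ : σ ≫ f = 𝟙 _) {L N : Type u} [Field L] [Field N]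
    [Algebra k L] [Algebra k N] [Algebra L N] [IsScalarTower k L N] [FiniteDimensional L N] [IsGalois L N]
    (c : PicLoc.PicSet (PicF.XT f (TK k N)))
    (hc : ∀ g : N ≃ₐ[L] N, pull (PicF.XTmap f (TKmap ((g : N →ₐ[L] N).restrictScalars k))) c = c) :
    ∃ d : PicLoc.PicSet (PicF.XT f (TK k L)),
      pull (PicF.XTmap f (TKmap (IsScalarTower.toAlgHom k L N))) d = c := by
  let v := TKmap (IsScalarTower.toAlgHom k L N)
  haveI hvet : Etale v.left := by
    show Etale (Spec.map (CommRingCat.ofHom (algebraMap L N)))
    have : Algebra.FormallyEtale L N := Algebra.FormallyEtale.of_isSeparable _ _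
    have : Algebra.FinitePresentation L N := Algebra.FinitePresentation.of_finiteType.mp inferInstance
    exact (HasRingHomProperty.Spec_iff (P := @Etale)).2
      (RingHom.etale_algebraMap.mpr ⟨inferInstance, inferInstance⟩)
  haveI : IsFinite v.left := by
    show IsFinite (Spec.map (CommRingCat.ofHom (algebraMap L N)))
    rw [IsFinite.SpecMap_iff]
    exact RingHom.finite_algebraMap.mpr inferInstance
  haveI : Surjective v.left := ⟨fun y => ⟨(IsLocalRing.closedPoint N : Spec (CommRingCat.of N)),
    Subsingleton.elim _ _⟩⟩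
  let W := W₂ v
  haveI : IsFinite (pullback.fst v.left v.left) := MorphismProperty.pullback_fst (P := @IsFinite) _ _ ‹_›
  haveI : Etale (pullback.fst v.left v.left) := MorphismProperty.pullback_fst (P := @Etale) _ _ hvet
  haveI : Finite W.left := by
    let pt : (TK k N).left := IsLocalRing.closedPoint N
    have h := IsFinite.finite_preimage_singleton (pullback.fst v.left v.left) pt
    rw [Set.eq_univ_of_forall (s := pullback.fst v.left v.left ⁻¹' {pt})
      fun y => Subsingleton.elim _ _] at h
    exact Set.finite_univ_iff.1 h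
  haveI : JacobsonSpace W.left := by
    haveI : JacobsonSpace (TK k N).left := inferInstanceAs (JacobsonSpace (PrimeSpectrum N))
    exact LocallyOfFiniteType.jacobsonSpace (pullback.fst v.left v.left)
  haveI : DiscreteTopology W.left := inferInstance
  haveI : IsReduced W.left := by
    let q : Over (Spec (CommRingCat.of N)) := Over.mk (pullback.fst v.left v.left)
    haveI : Smooth q.hom := inferInstanceAs (Smooth (pullback.fst v.left v.left))
    haveI := Groth.AlgGrp1.geometricallyReduced_of_smooth_hom q
    exact Groth.AlgGrp1.isReduced_left q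
  let c' : RS f σ hσ (TK k N) := ⟨c, pic_TK _⟩
  have hglue : c'.map (pr₁ v) = c'.map (pr₂ v) := by
    refine Subtype.ext (eq_of_mul_inv_eq_one ?_)
    refine eq_one_of_points W _ fun w => ?_
    let K : Type u := W.left.residueField w
    letI : Algebra k K := (Spec.preimage (W.left.fromSpecResidueField w ≫ W.hom)).hom.toAlgebra
    have hK : (resPt W w).hom = (TK k K).hom := (Spec.map_preimage (W.left.fromSpecResidueField w ≫ W.hom)).symm
    let u : resPt W w ⟶ TK k K := Over.homMk (𝟙 _) ((Category.id_comp _).trans hK.symm)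
    let j : TK k K ⟶ W := Over.homMk (W.left.fromSpecResidueField w) hK
    have hu : resPtι W w = u ≫ j := Over.OverMorphism.ext (Category.id_comp _).symm
    obtain ⟨a, ha⟩ := exists_TKmap (j ≫ pr₁ v)
    obtain ⟨b, hb⟩ := exists_TKmap (j ≫ pr₂ v)
    have hab : a.comp (IsScalarTower.toAlgHom k L N) = b.comp (IsScalarTower.toAlgHom k L N) := by
      have h : TKmap a ≫ v = TKmap b ≫ v := by
        rw [ha, hb, Category.assoc, Category.assoc,
          show pr₁ v ≫ v = pr₂ v ≫ v from Over.OverMorphism.ext pullback.condition]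
      rw [TKmap_comp, TKmap_comp] at h
      have h' := CommRingCat.hom_ext_iff.1 (Spec.map_injective (congrArg (fun m : TK k K ⟶ TK k L => m.left) h))
      exact AlgHom.ext fun x => RingHom.congr_fun h' x
    letI : Algebra L K := (a.comp (IsScalarTower.toAlgHom k L N)).toRingHom.toAlgebra
    let aL : N →ₐ[L] K := { a.toRingHom with commutes' := fun x => rfl }
    let bL : N →ₐ[L] K := { b.toRingHom with commutes' := fun x => (DFunLike.congr_fun hab x).symm }
    have hinj : Function.Injective fun g : N ≃ₐ[L] N => aL.comp (g : N →ₐ[L] N) := fun g g' h =>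
      AlgEquiv.ext fun x => a.toRingHom.injective (DFunLike.congr_fun h x)
    obtain ⟨g, hg⟩ := (hinj.bijective_of_nat_card_le
      ((card_algHom_le_finrank L N K).trans (IsGalois.card_aut_eq_finrank L N).ge)).2 bL
    have hb' : TKmap b = TKmap a ≫ TKmap ((g : N →ₐ[L] N).restrictScalars k) := by
      rw [TKmap_comp]
      congr 1
      exact AlgHom.ext fun x => (DFunLike.congr_fun hg x).symm
    rw [hu, PicCurve.XTmap_comp', pull_comp]
    refine (congrArg _ ?_).trans (map_one _)
    rw [map_mul, map_inv]
    show pull (PicF.XTmap f j) (pull (PicF.XTmap f (pr₁ v)) c) *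
      (pull (PicF.XTmap f j) (pull (PicF.XTmap f (pr₂ v)) c))⁻¹ = 1
    rw [← pull_comp, ← PicCurve.XTmap_comp', ← pull_comp, ← PicCurve.XTmap_comp', ← ha, ← hb, hb',
      PicCurve.XTmap_comp', pull_comp, hc g, mul_inv_cancel]
  obtain ⟨d, hd⟩ := exists_map_eq v (mem_fpqc_XTmap (f := f) v) (hf.constFun _ ⊤) (hf.constFun _ ⊤) c' hglue
  exact ⟨d.1, congrArg Subtype.val hd⟩

end Groth.ModelsGraphs.PicDim
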