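import Groth.Agent.PicCurve.RelDeg
import Groth.Agent.PicCurve.Main
import Groth.Agent.S15990

/-!
# Degrees of classes on a pointed curve, and effective classes of degree the genus over a field
-/

set_option autoImplicit false

universe u

open CategoryTheory CategoryTheory.Limits AlgebraicGeometry TopologicalSpace Opposite
open Groth.Abvar.PicCalc
open Groth.PicCurve
open Groth.PicAux (pullSec res)

set_option maxHeartbeats 1600000
set_option backward.isDefEq.respectTransparency false
set_option backward.defeqAttrib.useBackward true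
set_option backward.isDefEq.respectTransparency.types false

namespace Groth.ModelsGraphs.PicDim

section Family

variable {Y T : Scheme.{u}} {π : Y ⟶ T}

/-- The degree of the zero scheme of a fibrewise nonzero section. -/
theorem finrank_zero_eq_degC (hπ : IsCurveFam π) {L : Y.Modules} (hL : PicF.IsInvertible L)
    {s : Γ(L, (⊤ : Y.Opens))} (hs : FibNZ (W := ⊤) π L s) (t : T) :
    (((zero L s).subschemeι ≫ π).finrank t : ℤ) = degC π (cls hL) t := by
  obtain ⟨-, _, _, -⟩ := isFinLocFree_zero hπ hL hs
  obtain ⟨_, _, _, _, hdim⟩ := hπ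
  set I := zero L s
  set J := I.comap (π.fiberι t)
  let p := π.fiberToSpecResidueField t
  letI : (π.fiber t).Over (Spec (CommRingCat.of (T.residueField t))) := ⟨p⟩
  have hp : IsProper p := MorphismProperty.pullback_snd _ _ ‹IsProper π›
  have : IsProper (π.fiber t ↘ Spec (CommRingCat.of (T.residueField t))) := hp
  have := Groth.EulerDeg.isNoetherian_of_proper (T.residueField t) (π.fiber t)
  obtain ⟨top, hsq⟩ := isPullback_comap_fiber π I t
  have hJfin : IsFinite (J.subschemeι ≫ p) := MorphismProperty.of_isPullback hsq ‹_›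
  have hJ : J = zero ((Scheme.Modules.pullback (π.fiberι t)).obj L) (pullSec (π.fiberι t) L s) :=
    (zero_pull (π.fiberι t) hL s).symm
  have h1 := finrank_quotMod_zero (K := T.residueField t) (hdim t)
    (Groth.PicAux.isInvertible_pullback (π.fiberι t) hL) (pullSec_fiber_ne_zero hs t)
  rw [← hJ, Groth.ModelsGraphs.InterPair.finrank_quotMod] at h1
  have h2 : (J.subschemeι ≫ p).finrank (IsLocalRing.closedPoint (T.residueField t)) =
      (I.subschemeι ≫ π).finrank t := by
    rw [Scheme.Hom.finrank_of_isPullback _ _ _ _ hsq, Scheme.fromSpecResidueField_apply]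
  rw [← h2, ← Groth.Misc3Fib.deg_eq_finrank, degC_cls, fibEuler_structure]
  exact h1

end Family

variable {k : Type u} [Field k] {X : Scheme.{u}} {f : X ⟶ Spec (CommRingCat.of k)}
  {σ : Spec (CommRingCat.of k) ⟶ X} {hσ : σ ≫ f = 𝟙 (Spec (CommRingCat.of k))}
  {T T' : Over (Spec (CommRingCat.of k))}

/-- The degree of a class on the curve itself. -/
noncomputable def deg0 (f : X ⟶ Spec (CommRingCat.of k)) (N : PicLoc.PicSet X) : ℤ :=
  degC f N (IsLocalRing.closedPoint k)

noncomputable local instance overFibre {Y S : Scheme.{u}} (π : Y ⟶ S) (s : S) :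
    (π.fiber s).Over (Spec (CommRingCat.of (S.residueField s))) :=
  ⟨π.fiberToSpecResidueField s⟩

variable (hf : IsPtCurve f)
include hf

theorem degC_map (g : T' ⟶ T) (c : PicLoc.PicSet (PicF.XT f T)) (t : T'.left) :
    degC (PicF.XTproj f T') (pull (PicF.XTmap f g) c) t = degC (PicF.XTproj f T) c (g.left t) := by
  have := hf.isProper_proj T
  have := hf.smooth_proj T
  exact degC_baseChange _ (XTmap_sq f g) c t

theorem degC_fst (N : PicLoc.PicSet X) (t : T.left) :
    degC (PicF.XTproj f T) (tw T N) t = deg0 f N := by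
  have := hf.proper
  have := hf.smooth
  refine (degC_baseChange f (IsPullback.of_hasPullback f T.hom) N t).trans ?_
  rw [deg0, Subsingleton.elim (T.hom t) (IsLocalRing.closedPoint k)]

theorem degC_mulT (a b : PicLoc.PicSet (PicF.XT f T)) (t : T.left) :
    degC (PicF.XTproj f T) (a * b) t = degC (PicF.XTproj f T) a t + degC (PicF.XTproj f T) b t :=
  haveI := hf.isProper_proj T
  degC_mul _ (hf.dim_fiber T) a b t

theorem degC_invT (a : PicLoc.PicSet (PicF.XT f T)) (t : T.left) :
    degC (PicF.XTproj f T) a⁻¹ t = - degC (PicF.XTproj f T) a t :=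
  haveI := hf.isProper_proj T
  degC_inv _ (hf.dim_fiber T) a t

theorem degC_powT (a : PicLoc.PicSet (PicF.XT f T)) (n : ℕ) (t : T.left) :
    degC (PicF.XTproj f T) (a ^ n) t = n * degC (PicF.XTproj f T) a t := by
  induction n with
  | zero => rw [pow_zero, degC_one]; simp
  | succ n ih => rw [pow_succ, degC_mulT hf, ih]; push_cast; ring

/-- Classes from the base have degree zero. -/
theorem degC_base (d : PicLoc.PicSet T.left) (t : T.left) :
    degC (PicF.XTproj f T) (pull (PicF.XTproj f T) d) t = 0 := by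
  obtain ⟨U, htU, hU⟩ := exists_trivializing d t
  refine (degC_map hf (opnHom T U) (pull (PicF.XTproj f T) d) (⟨t, htU⟩ : U.toScheme)).symm.trans ?_
  rw [pull_base_opn U d hU, degC_one]

theorem degC_norm (c : PicLoc.PicSet (PicF.XT f T)) (t : T.left) :
    degC (PicF.XTproj f T) (norm f σ hσ T c).1 t = degC (PicF.XTproj f T) c t := by
  show degC (PicF.XTproj f T) (c * _) t = _
  rw [degC_mulT hf, degC_invT hf, degC_base hf, neg_zero, add_zero]

/-- Good classes have degree the genus. -/
theorem degC_good {c : PicLoc.PicSet (PicF.XT f T)} {t : T.left}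
    (h : GoodC (PicF.XTproj f T) c t) : degC (PicF.XTproj f T) c t = genus f := by
  obtain ⟨L, hL, rfl⟩ := PicGrp.exists_eq_cls c
  rw [goodC_cls] at h
  have := hf.isProper_proj T
  have e1 : CohIII.fiberRank (PicF.XTproj f T) L 1 t = 0 := by
    have := h.1
    exact Module.finrank_zero_of_subsingleton (M := CohIII.fiberH (PicF.XTproj f T) L t 1)
  rw [degC_cls, fibEuler_eq_sub _ (hf.dim_fiber T), fibEuler_structure, h.2, e1]
  have := hf.euler_fiber T t
  rw [show Curv2.euler _ _ _ = _ from this]
  push_cast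
  ring

/-- The degree of the class of a divisor. -/
theorem degC_dC {d : ℕ} (W : HilbD.Obj f d T) (t : T.left) :
    degC (PicF.XTproj f T) (dC hf W) t = d := by
  have := hf.isProper_proj T
  have := hf.smoothOne_proj T
  have := hf.geomInt_proj T
  obtain ⟨L, hL, s, hz, hc⟩ :=
    exists_section (isEffCartierIdeal_of_finLocFree (PicF.XTproj f T) W.2).1
  have hs : FibNZ (W := ⊤) (PicF.XTproj f T) L s := fibNZ_of_zero _ hL (d := d) (hz ▸ W.2)
  rw [show dC hf W = cls hL from hc.symm, ← finrank_zero_eq_degC (hf.isCurveFam T) hL hs t, hz, W.2.2 t]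

/-- The degree is locally constant. -/
theorem isLocallyConstant_degC [IsSepClosed k] (hσ : σ ≫ f = 𝟙 _)
    (c : PicLoc.PicSet (PicF.XT f T)) : IsLocallyConstant (degC (PicF.XTproj f T) c) := by
  refine (IsLocallyConstant.iff_exists_open _).2 fun t => ?_
  obtain ⟨N, hN⟩ := exists_goodC_twist hf σ hσ T c t
  refine ⟨goodOpens f hf (c * tw T N), (goodOpens f hf _).2, hN, fun z hz => ?_⟩
  have key : ∀ y, GoodC (PicF.XTproj f T) (c * tw T N) y →
      degC (PicF.XTproj f T) c y = genus f - deg0 f N := fun y hy => by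
    have := degC_good hf hy
    rw [degC_mulT hf, degC_fst hf] at this
    omega
  rw [key z hz, key t hN]

/-- A class of degree one on the curve. -/
theorem exists_deg0_one (hσ : σ ≫ f = 𝟙 _) : ∃ N : PicLoc.PicSet X, deg0 f N = 1 := by
  have := hf.proper
  have := hf.smooth
  have := hf.geomConn
  have := hf.smoothOne
  have hdim : ∀ s, topologicalKrullDim ↥(f.fiber s) = 1 := fun s => by
    rw [← hf.dim]
    have hu : f ⁻¹' {s} = Set.univ :=
      Set.eq_univ_of_forall fun _ => Subsingleton.elim (α := PrimeSpectrum k) _ _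
    exact ((f.fiberHomeo s).trans ((Homeomorph.setCongr hu).trans
      (Homeomorph.Set.univ _))).isHomeomorph.topologicalKrullDim_eq
  have hI : BlowUp.IsEffCartierIdeal σ.ker := (Groth.Agent.S15990.result f σ hσ).1
  exact ⟨divCls hI, degC_divCls_section f hdim hσ hI _⟩

/-- Over a point, a class of degree the genus is the class of a divisor. -/
theorem exists_divisor_of_point [Subsingleton T.left] [IsReduced T.left]
    (c : PicLoc.PicSet (PicF.XT f T)) (t : T.left)
    (hc : degC (PicF.XTproj f T) c t = genus f) :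
    ∃ W : HilbD.Obj f (genus f) T, dC hf W = c := by
  obtain ⟨L, hL, rfl⟩ := PicGrp.exists_eq_cls c
  let π := PicF.XTproj f T
  have := hf.isProper_proj T
  let K := T.left.residueField t
  letI : (π.fiber t).Over (Spec (CommRingCat.of K)) := ⟨π.fiberToSpecResidueField t⟩
  have : IsProper (π.fiber t ↘ Spec (CommRingCat.of K)) :=
    MorphismProperty.pullback_snd (P := @IsProper) _ _ ‹_›
  have := Groth.EulerDeg.isNoetherian_of_proper K (π.fiber t)
  have hιt : IsIso (T.left.fromSpecResidueField t) := by
    have : IsClosedImmersion (T.left.fromSpecResidueField t) :=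
      isClosed_singleton_iff_isClosedImmersion.1
        ((Set.eq_univ_of_forall (s := ({t} : Set T.left)) fun y => Subsingleton.elim y t).symm ▸ isClosed_univ)
    have : Surjective (T.left.fromSpecResidueField t) :=
      ⟨fun y => ⟨IsLocalRing.closedPoint _, Subsingleton.elim _ _⟩⟩
    exact isIso_of_isClosedImmersion_of_surjective _
  have hι : IsIso (π.fiberι t) :=
    inferInstanceAs (IsIso (pullback.fst π (T.left.fromSpecResidueField t)))
  have hb := Groth.PicCurve.Glue.pullSec_bijective (π.fiberι t) L (U := (⊤ : (PicF.XT f T).Opens))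
    (by rw [Scheme.Hom.opensRange_of_isIso])
  have hnt : 1 ≤ CohIII.fiberRank π L 0 t := by
    have h1 := hc
    rw [degC_cls, fibEuler_eq_sub _ (hf.dim_fiber T), fibEuler_structure] at h1
    rw [show Curv2.euler _ _ _ = _ from hf.euler_fiber T t] at h1
    change (1 : ℕ) ≤ CohIII.fiberRank (PicF.XTproj f T) L 0 t
    omega
  obtain ⟨s, hs0⟩ : ∃ s : Γ(L, (⊤ : (PicF.XT f T).Opens)), (show Γ((Scheme.Modules.pullback (π.fiberι t)).obj L, (⊤ : (π.fiber t).Opens)) from pullSec (π.fiberι t) L s) ≠ 0 := by
    have hpos : 0 < Module.finrank K (CohIII.fiberH π L t 0) := hnt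
    have := Module.nontrivial_of_finrank_pos hpos
    obtain ⟨x, hx⟩ := exists_ne (0 : CohIII.fiberH π L t 0)
    let e := Groth.EulerDeg.h0Equiv K ((Scheme.Modules.pullback (π.fiberι t)).obj L)
    obtain ⟨s, hs⟩ := hb.2 (e x)
    refine ⟨s, fun h0 => hx (e.injective ?_)⟩
    rw [map_zero, ← h0]
    exact hs.symm
  have hs : FibNZ (W := ⊤) π L s := fun t' _ => by
    obtain rfl := Subsingleton.elim t' t
    exact hs0
  obtain ⟨hC, hfin, hflat, hlfp⟩ := isFinLocFree_zero (hf.isCurveFam T) hL hs
  refine ⟨⟨_, ⟨hfin, hflat, hlfp⟩, fun z => ?_⟩, (cls_eq_divCls hL s hC).symm⟩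
  obtain rfl := Subsingleton.elim z t
  exact_mod_cast (finrank_zero_eq_degC (hf.isCurveFam T) hL hs z).trans hc

end Groth.ModelsGraphs.PicDim
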