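import Groth.Agent.ModelsGraphs.PicDim.Dim
import Groth.Agent.ModelsGraphs.PicDim.Deg
import Groth.Agent.ModelsGraphs.PicDiv.Smooth
import Groth.Agent.AlgGrp1.Basic
import Groth.Agent.AlgGrp1.Geom
import Groth.Agent.SmoothWeil.Geom
import Groth.Agent.FibreDim.Semicontinuity

/-!
# The Jacobian of a pointed curve over a separably closed field
-/

set_option autoImplicit false

universe u

open CategoryTheory CategoryTheory.Limits MonoidalCategory CartesianMonoidalCategory MonObj AlgebraicGeometry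
  TopologicalSpace Opposite
open Groth.Abvar.PicCalc
open Groth.PicCurve
open Groth.HilbPts (pullObj)
open Groth.ModelsGraphs.PicDiv (cl classify cl_classify cl_injective cl_comp)

set_option maxHeartbeats 1600000
set_option backward.isDefEq.respectTransparency false
set_option backward.defeqAttrib.useBackward true
set_option backward.isDefEq.respectTransparency.types false

namespace Groth.ModelsGraphs.PicDim

section Grp

variable {S : Scheme.{u}} {J : Over S}

/-- A group structure on the points, compatible with composition, makes a group object. -/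
theorem exists_grpObj_of_points {A : Over S → Type (u + 1)} [∀ T, CommGroup (A T)]
    (e : ∀ T, (T ⟶ J) ≃ A T) (res : ∀ {T T' : Over S}, (T' ⟶ T) → A T →* A T')
    (hres : ∀ {T T' : Over S} (g : T' ⟶ T) (h : T ⟶ J), e T' (g ≫ h) = res g (e T h)) :
    ∃ (_ : GrpObj J) (_ : IsCommMonObj J), ∀ (T : Over S) (g h : T ⟶ J), e T (g * h) = e T g * e T h := by
  letI inst : ∀ T : Over S, CommGroup (T ⟶ J) := fun T => (e T).commGroup
  have hmul : ∀ (T : Over S) (g h : T ⟶ J), e T ((inst T).mul g h) = e T g * e T h := fun T g h =>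
    (e T).apply_symm_apply _
  have hcomp : ∀ {T T' : Over S} (g : T' ⟶ T) (a b : T ⟶ J),
      g ≫ (inst T).mul a b = (inst T').mul (g ≫ a) (g ≫ b) := fun g a b => (e _).injective (by
    rw [hres, hmul, hmul, hres, hres, map_mul])
  let F : (Over S)ᵒᵖ ⥤ CommGrpCat.{u} :=
    { obj := fun T => CommGrpCat.of (T.unop ⟶ J)
      map := fun g => CommGrpCat.ofHom (MonoidHom.mk' (fun h => g.unop ≫ h) fun a b => hcomp g.unop a b)
      map_id := fun T => CommGrpCat.hom_ext (MonoidHom.ext fun h => Category.id_comp h)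
      map_comp := fun g g' => CommGrpCat.hom_ext (MonoidHom.ext fun h => Category.assoc g'.unop g.unop h) }
  let α : (F ⋙ forget _).RepresentableBy J :=
    { homEquiv := fun {T} => Equiv.refl _
      homEquiv_comp := fun _ _ => rfl }
  letI cg := CommGrpObj.ofRepresentableBy J F α
  refine ⟨inferInstance, inferInstance, fun T g h => ?_⟩
  have hμ : e (J ⊗ J) μ[J] = e _ (fst J J) * e _ (snd J J) := by
    rw [← hmul]
    rfl
  rw [Hom.mul_def, hres, hμ, map_mul, ← hres, ← hres, lift_fst, lift_snd]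

end Grp

variable {k : Type u} [Field k] {X : Scheme.{u}} {f : X ⟶ Spec (CommRingCat.of k)}
  {σ : Spec (CommRingCat.of k) ⟶ X} {hσ : σ ≫ f = 𝟙 (Spec (CommRingCat.of k))}

/-- The rigidified classes of degree zero on every fibre. -/
def IsZeroClass (f : X ⟶ Spec (CommRingCat.of k)) (σ : Spec (CommRingCat.of k) ⟶ X)
    (hσ : σ ≫ f = 𝟙 (Spec (CommRingCat.of k))) (T : Over (Spec (CommRingCat.of k)))
    (c : PicLoc.PicSet (PicF.XT f T)) : Prop :=
  pull (PicF.secT f σ hσ T) c = 1 ∧ ∀ t, degC (PicF.XTproj f T) c t = 0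

/-- The subgroup of rigidified classes of degree zero. -/
noncomputable def zeroClasses (hf : IsPtCurve f) (σ : Spec (CommRingCat.of k) ⟶ X)
    (hσ : σ ≫ f = 𝟙 (Spec (CommRingCat.of k))) (T : Over (Spec (CommRingCat.of k))) :
    Subgroup (PicLoc.PicSet (PicF.XT f T)) where
  carrier := {c | IsZeroClass f σ hσ T c}
  one_mem' := ⟨map_one _, fun t => degC_one _ t⟩
  mul_mem' := fun {a b} ha hb => ⟨by rw [map_mul, ha.1, hb.1, _root_.one_mul],
    fun t => by rw [degC_mulT hf, ha.2, hb.2, add_zero]⟩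
  inv_mem' := fun {a} ha => ⟨by rw [map_inv, ha.1, inv_one],
    fun t => by rw [degC_invT hf, ha.2, neg_zero]⟩

theorem zeroClasses_map (hf : IsPtCurve f) {T T' : Over (Spec (CommRingCat.of k))} (g : T' ⟶ T)
    {c : PicLoc.PicSet (PicF.XT f T)} (hc : c ∈ zeroClasses hf σ hσ T) :
    pull (PicF.XTmap f g) c ∈ zeroClasses hf σ hσ T' :=
  ⟨pull_map_mem g hc.1, fun t => by rw [degC_map hf]; exact hc.2 _⟩

/-- The Jacobian: an abelian variety of dimension the genus whose points are the rigidified classes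
of degree zero, as groups. -/
theorem exists_picZero [IsSepClosed k] (hf : IsPtCurve f) (hσ : σ ≫ f = 𝟙 _) :
    ∃ (J : Over (Spec (CommRingCat.of k))) (_ : GrpObj J) (_ : IsCommMonObj J)
      (e : ∀ T : Over (Spec (CommRingCat.of k)), (T ⟶ J) ≃ zeroClasses hf σ hσ T),
      (∀ (T : Over (Spec (CommRingCat.of k))) (g h : T ⟶ J), e T (g * h) = e T g * e T h) ∧
      (∀ (T T' : Over (Spec (CommRingCat.of k))) (g : T' ⟶ T) (h : T ⟶ J),
        (e T' (g ≫ h)).1 = pull (PicF.XTmap f g) (e T h).1) ∧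
      IsProper J.hom ∧ Smooth J.hom ∧ GeometricallyIntegral J.hom ∧
      topologicalKrullDim J.left = genus f := by
  have := hf.geomIrr
  obtain ⟨P, hP, ⟨r⟩⟩ := PicDiv.exists_smooth_representableBy (σ := σ) (hσ := hσ) hf
  let ξ : RS f σ hσ P := cl r (𝟙 P)
  have hξ : ∀ {T : Over (Spec (CommRingCat.of k))} (g : T ⟶ P), cl r g = ξ.map g := fun g => by
    rw [← cl_comp, Category.comp_id]
  let U : P.left.Opens := ⟨{x | degC (PicF.XTproj f P) ξ.1 x = 0},
    (isLocallyConstant_degC hf hσ ξ.1).isOpen_fiber 0⟩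
  let J : Over (Spec (CommRingCat.of k)) := Over.mk (U.ι ≫ P.hom)
  let ι₀ : J ⟶ P := Over.homMk U.ι rfl
  have hdeg : ∀ {T : Over (Spec (CommRingCat.of k))} (g : T ⟶ P) (t : T.left),
      degC (PicF.XTproj f T) (cl r g).1 t = degC (PicF.XTproj f P) ξ.1 (g.left t) := fun g t => by
    rw [hξ g]
    exact degC_map hf g ξ.1 t
  have hlift : ∀ {T : Over (Spec (CommRingCat.of k))} (g : T ⟶ P),
      (∀ t, degC (PicF.XTproj f T) (cl r g).1 t = 0) → ∃ g₀ : T ⟶ J, g₀ ≫ ι₀ = g := fun {T} g hg => by
    have hsub : Set.range g.left ⊆ U := by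
      rintro _ ⟨t, rfl⟩
      exact (hdeg g t).symm.trans (hg t)
    exact ⟨Over.homMk (IsOpenImmersion.lift U.ι g.left (hsub.trans (Scheme.Opens.range_ι U).ge))
      (by show _ ≫ U.ι ≫ P.hom = _; rw [IsOpenImmersion.lift_fac_assoc, Over.w g]),
      Over.OverMorphism.ext (IsOpenImmersion.lift_fac _ _ _)⟩
  let ev : ∀ T : Over (Spec (CommRingCat.of k)), (T ⟶ J) → zeroClasses hf σ hσ T := fun T g =>
    ⟨(cl r (g ≫ ι₀)).1, (cl r (g ≫ ι₀)).2, fun t => (hdeg _ t).trans (g.left t).2⟩
  have hev : ∀ T, Function.Bijective (ev T) := fun T => by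
    refine ⟨fun a b h => ?_, fun c => ?_⟩
    · have h1 : a ≫ ι₀ = b ≫ ι₀ := cl_injective r (Subtype.ext (congrArg (fun c : zeroClasses hf σ hσ T => c.1) h))
      exact Over.OverMorphism.ext ((cancel_mono U.ι).1 (congrArg (fun m : T ⟶ P => m.left) h1))
    · obtain ⟨g₀, hg₀⟩ := hlift (classify r ⟨c.1, c.2.1⟩) (fun t => by rw [cl_classify]; exact c.2.2 t)
      refine ⟨g₀, Subtype.ext ?_⟩
      show (cl r (g₀ ≫ ι₀)).1 = c.1
      rw [hg₀, cl_classify]
  let e := fun T => Equiv.ofBijective (ev T) (hev T)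
  have hnat : ∀ (T T' : Over (Spec (CommRingCat.of k))) (g : T' ⟶ T) (h : T ⟶ J),
      (e T' (g ≫ h)).1 = pull (PicF.XTmap f g) (e T h).1 := fun T T' g h => by
    show (cl r ((g ≫ h) ≫ ι₀)).1 = _
    rw [Category.assoc, cl_comp]
    rfl
  obtain ⟨hG, hC, hmul⟩ := exists_grpObj_of_points (J := J) (A := fun T => zeroClasses hf σ hσ T) e
    (fun {T T'} g => MonoidHom.mk' (fun c => ⟨pull (PicF.XTmap f g) c.1, zeroClasses_map hf g c.2⟩)
      fun a b => Subtype.ext (map_mul _ _ _))
    (fun g h => Subtype.ext (hnat _ _ g h))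
  refine ⟨J, hG, hC, e, hmul, hnat, ?_⟩
  have hsm : Smooth J.hom := by
    show Smooth (U.ι ≫ P.hom)
    infer_instance
  -- divisors of degree the genus surject onto it
  have := hf.geomConn
  obtain ⟨H, Z, hZ, hHp, hHc⟩ := exists_proper_smooth_connected k X f hf.curve (genus f)
  obtain ⟨N, hN⟩ := exists_deg0_one hf hσ
  let tg : ∀ T : Over (Spec (CommRingCat.of k)), PicLoc.PicSet (PicF.XT f T) := fun T => tw T N ^ genus f
  have htg : ∀ (T : Over (Spec (CommRingCat.of k))) (t : T.left),
      degC (PicF.XTproj f T) (tg T) t = genus f := fun T t => by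
    rw [degC_powT hf, degC_fst hf, hN, _root_.mul_one]
  let a : H ⟶ P := classify r (PicCurve.norm f σ hσ H (dC hf Z * (tg H)⁻¹))
  obtain ⟨a₀, ha₀⟩ := hlift a fun t => by
    rw [cl_classify, degC_norm hf, degC_mulT hf, degC_invT hf, degC_dC hf, htg, add_neg_cancel]
  have hsurj : Surjective a₀.left := by
    refine ⟨fun x => ?_⟩
    let T : Over (Spec (CommRingCat.of k)) := Over.mk (P.left.fromSpecResidueField x.1 ≫ P.hom)
    let τ : T ⟶ P := Over.homMk (P.left.fromSpecResidueField x.1) rfl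
    let pt : T.left := IsLocalRing.closedPoint (P.left.residueField x.1)
    have hτ : τ.left pt = x.1 := Scheme.fromSpecResidueField_apply _ _
    haveI : Subsingleton T.left := inferInstanceAs (Subsingleton (PrimeSpectrum _))
    haveI : IsReduced T.left := inferInstanceAs (IsReduced (Spec _))
    obtain ⟨W, hW⟩ := exists_divisor_of_point hf ((cl r τ).1 * tg T) pt (by
      rw [degC_mulT hf, hdeg, hτ, x.2, htg, zero_add])
    obtain ⟨t, ht, -⟩ := hZ T W
    have hta : t ≫ a = τ := cl_injective r (by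
      refine Eq.trans ?_ (PicCurve.norm_self (cl r τ))
      rw [cl_comp, cl_classify, PicCurve.norm_map]
      congr 1
      rw [map_mul, pull_dC, map_inv, show tg H = tw H N ^ genus f from rfl, map_pow, tw_map,
        dC_congr hf (W' := W) ht, hW]
      exact mul_inv_cancel_right _ _)
    refine ⟨t.left pt, Subtype.ext ?_⟩
    show (a₀ ≫ ι₀).left (t.left pt) = x.1
    rw [ha₀]
    exact (congrArg (fun m : T ⟶ P => m.left pt) hta).trans hτ
  have hsep := Groth.AlgGrp1.isSeparated_grpObj J
  haveI : UniversallyClosed (a₀.left ≫ J.hom) := by rw [Over.w a₀]; infer_instance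
  haveI : UniversallyClosed J.hom := UniversallyClosed.of_comp_surjective a₀.left J.hom
  have hprop : IsProper J.hom := { }
  have hconn : ConnectedSpace J.left := a₀.left.surjective.connectedSpace a₀.left.continuous
  have hgc : GeometricallyConnected J.hom :=
    Groth.AlgGrp1.geometricallyConnected_of_point J.hom (η[J] : 𝟙_ _ ⟶ J).left (Over.w (η[J] : 𝟙_ _ ⟶ J))
  have hgr : GeometricallyReduced J.hom := Groth.GrpschAbsch.FibreFlat.geometricallyReduced_of_smooth J.hom
  have hgi : GeometricallyIrreducible J.hom := Groth.SmoothWeil.geometricallyIrreducible_of_connected J.hom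
  refine ⟨hprop, hsm,
    GeometricallyIntegral.of_geometricallyReduced_of_geometricallyIrreducible J.hom, ?_⟩
  rw [Groth.FibreDim.dim_eq_iSup_localDim J.hom]
  refine le_antisymm (iSup_le fun z => le_of_eq ?_) ?_
  · show FlatMor.localDim U.toScheme z = _
    rw [Groth.DescentBase.localDim_eq_of_etale U.ι z]
    exact localDim_eq_genus hf r _
  · obtain ⟨z⟩ : Nonempty J.left := hconn.toNonempty
    refine le_trans (le_of_eq ?_) (le_iSup _ z)
    show _ = FlatMor.localDim U.toScheme z
    rw [Groth.DescentBase.localDim_eq_of_etale U.ι z]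
    exact (localDim_eq_genus hf r _).symm

end Groth.ModelsGraphs.PicDim
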