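import Groth.Agent.ModelsGraphs.PicDim.Stage
import Groth.Agent.ModelsGraphs.PicDim.PicZero
import Groth.Agent.S6545
import Groth.Agent.GrpschAbsch.GrpEtale
import Groth.Agent.Curves1.RR.Descend

/-!
# Torsion classes of a pointed curve over a separably closed field, and their finite stages
-/

set_option autoImplicit false

universe u

open CategoryTheory CategoryTheory.Limits MonoidalCategory CartesianMonoidalCategory MonObj AlgebraicGeometry
  TopologicalSpace Opposite
open Groth.Abvar.PicCalc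
open Groth.PicCurve

set_option maxHeartbeats 1600000
set_option backward.isDefEq.respectTransparency false
set_option backward.defeqAttrib.useBackward true
set_option backward.isDefEq.respectTransparency.types false

namespace Groth.ModelsGraphs.PicDim

/-- The classes killed by `n`. -/
def Tors (n : ℕ) (Y : Scheme.{u}) : Type (u + 1) := {c : PicLoc.PicSet Y // c ^ n = 1}

/-- Torsion in the classes of modules as torsion in the Picard group. -/
theorem card_cl_eq (Y : Scheme.{u}) (n : ℕ) :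
    Nat.card {c : PicF.Cl Y | ∃ M : Y.Modules, PicF.cl M = c ∧ PicF.IsInvertible M ∧
      Nonempty (CohB1.tensorPow M n ≅ Coh.structureModule Y)} = Nat.card (Tors n Y) := by
  let B : {c : PicF.Cl Y | ∃ M : Y.Modules, PicF.cl M = c ∧ PicF.IsInvertible M ∧
      Nonempty (CohB1.tensorPow M n ≅ Coh.structureModule Y)} ≃ Tors n Y :=
    { toFun := fun c => ⟨⟨c.1, by obtain ⟨M, h, hM, -⟩ := c.2; exact ⟨M, h, hM⟩⟩, by
        obtain ⟨M, h, hM, he⟩ := c.2
        have : (⟨c.1, ⟨M, h, hM⟩⟩ : PicLoc.PicSet Y) = cls hM := Subtype.ext h.symm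
        rw [this, ← cls_tensorPow hM n]
        exact (nonempty_iso_structure_iff _).1 he⟩
      invFun := fun c => ⟨c.1.1, by
        obtain ⟨M, hM, h⟩ := PicGrp.exists_eq_cls c.1
        refine ⟨M, (congrArg Subtype.val h).symm, hM, ?_⟩
        rw [nonempty_iso_structure_iff (Groth.Abvar.PicCalc.isInvertible_tensorPow hM n), cls_tensorPow hM n]
        exact (congrArg (· ^ n) h).symm.trans c.2⟩
      left_inv := fun c => rfl
      right_inv := fun c => rfl }
  exact Nat.card_congr B

/-- Torsion along a pullback map. -/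
noncomputable def Tors.map {n : ℕ} {Y Z : Scheme.{u}} (φ : Y ⟶ Z) (c : Tors n Z) : Tors n Y :=
  ⟨pull φ c.1, by rw [← map_pow, c.2, map_one]⟩

/-- Torsion along an isomorphism. -/
noncomputable def Tors.congr {n : ℕ} {Y Z : Scheme.{u}} (e : Y ≅ Z) : Tors n Z ≃ Tors n Y where
  toFun := Tors.map e.hom
  invFun := Tors.map e.inv
  left_inv c := Subtype.ext (by
    show pull e.inv (pull e.hom c.1) = c.1
    rw [← pull_comp, e.inv_hom_id, pull_id])
  right_inv c := Subtype.ext (by
    show pull e.hom (pull e.inv c.1) = c.1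
    rw [← pull_comp, e.hom_inv_id, pull_id])

variable {k : Type u} [Field k] {X : Scheme.{u}} {f : X ⟶ Spec (CommRingCat.of k)}
  {σ : Spec (CommRingCat.of k) ⟶ X}

/-- Base change of a pointed curve. -/
theorem isPtCurve_bc (hf : IsPtCurve f) (hσ : σ ≫ f = 𝟙 _) (K : Type u) [Field K] [Algebra k K] :
    IsPtCurve (PicF.XTproj f (TK k K)) ∧ topologicalKrullDim ↥(PicF.XT f (TK k K)) = 1 := by
  have := hf.proper
  have := hf.smooth
  have := hf.geomInt
  have : IsProper (PicF.XTproj f (TK k K)) := hf.isProper_proj _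
  have : Smooth (PicF.XTproj f (TK k K)) := MorphismProperty.pullback_snd (P := @Smooth) _ _ hf.smooth
  have : GeometricallyIntegral (PicF.XTproj f (TK k K)) :=
    inferInstanceAs (GeometricallyIntegral (pullback.snd f (TK k K).hom))
  have : IsIntegral (PicF.XT f (TK k K)) :=
    @GeometricallyIntegral.isIntegral_of_subsingleton (PicF.XT f (TK k K)) (Spec (CommRingCat.of K))
      (PicF.XTproj f (TK k K)) _ _ _
  have hdim : topologicalKrullDim ↥(PicF.XT f (TK k K)) = 1 :=
    (Groth.Curves1.RR.dim_of_isPullback f (PicF.XTproj f (TK k K))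
      (IsPullback.of_hasPullback f (Spec.map (CommRingCat.ofHom (algebraMap k K))))).trans hf.dim
  exact ⟨isPtCurve ⟨‹_›, ‹_›, ‹_›, hdim⟩ (PicF.secT f σ hσ (TK k K)) (secT_proj f σ hσ _), hdim⟩

/-- The count over an algebraically closed extension. -/
theorem card_tors_algClosed [X.Over (Spec (CommRingCat.of k))] (hX : X ↘ Spec (CommRingCat.of k) = f)
    (hf : IsPtCurve f) (hσ : σ ≫ f = 𝟙 _) (Ω : Type u) [Field Ω] [Algebra k Ω] [IsAlgClosed Ω] {n : ℕ}
    (hn : (n : k) ≠ 0) :
    Nat.card (Tors n (PicF.XT f (TK k Ω))) = n ^ (2 * Curv2.genus k X) := by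
  subst hX
  let f := X ↘ Spec (CommRingCat.of k)
  obtain ⟨hfΩ, hdim⟩ := isPtCurve_bc hf hσ Ω
  letI : (PicF.XT f (TK k Ω)).Over (Spec (CommRingCat.of Ω)) := ⟨PicF.XTproj f (TK k Ω)⟩
  haveI := hfΩ.curve.2.2.1
  haveI : IsProper (PicF.XT f (TK k Ω) ↘ Spec (CommRingCat.of Ω)) := hfΩ.proper
  haveI : Smooth (PicF.XT f (TK k Ω) ↘ Spec (CommRingCat.of Ω)) := hfΩ.smooth
  have hn' : IsUnit (n : Ω) := by
    rw [isUnit_iff_ne_zero]
    exact fun h => hn ((algebraMap k Ω).injective (by rw [map_natCast, h, map_zero]))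
  have h := Groth.Agent.S6545.result Ω (PicF.XT f (TK k Ω)) hdim n hn'
  have hgen : Curv2.genus Ω (PicF.XT f (TK k Ω)) = Curv2.genus k X :=
    haveI := hf.proper
    Groth.Curves1.RR.finrank_structure
      (IsPullback.of_hasPullback f (Spec.map (CommRingCat.ofHom (algebraMap k Ω)))) 1
  rw [card_cl_eq, hgen] at h
  exact h

theorem degC_of_pow_eq_one (hf : IsPtCurve f) {T : Over (Spec (CommRingCat.of k))}
    {c : PicLoc.PicSet (PicF.XT f T)} {n : ℕ} (hn : n ≠ 0) (hc : c ^ n = 1) (t : T.left) :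
    degC (PicF.XTproj f T) c t = 0 := by
  have := degC_powT hf c n t
  rw [hc, degC_one] at this
  rcases mul_eq_zero.1 this.symm with h | h
  · exact absurd (by exact_mod_cast h) hn
  · exact h

/-- Over a separably closed field all torsion classes over an algebraically closed extension are
already defined. -/
theorem tors_map_bijective [IsSepClosed k] (hf : IsPtCurve f) (hσ : σ ≫ f = 𝟙 _) {n : ℕ}
    (hn : (n : k) ≠ 0) (Ω : Type u) [Field Ω] [Algebra k Ω] [Algebra.IsAlgebraic k Ω] :
    Function.Bijective (Tors.map (n := n) (PicF.XTmap f (TKmap (Algebra.ofId k Ω)))) := by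
  have hn0 : n ≠ 0 := by rintro rfl; exact hn Nat.cast_zero
  refine ⟨fun a b h => Subtype.ext (pull_TKmap_injective hf hσ _ (congrArg Subtype.val h)), fun c => ?_⟩
  obtain ⟨J, hG, hC, e, hmul, hnat, hp, -, -, -⟩ := exists_picZero hf hσ
  have := hp
  let τ := TKmap (Algebra.ofId k Ω)
  let Φ := fun T : Over (Spec (CommRingCat.of k)) =>
    ({ e T with map_mul' := hmul T } : (T ⟶ J) ≃* zeroClasses hf σ hσ T)
  let g : TK k Ω ⟶ J := (Φ _).symm ⟨c.1, pic_TK _, degC_of_pow_eq_one hf hn0 c.2⟩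
  have hg : g ^ n = 1 := by
    show ((Φ _).symm _) ^ n = 1
    rw [← map_pow, MulEquiv.map_eq_one_iff]
    exact Subtype.ext c.2
  let φ : J ⟶ J := 𝟙 J ^ n
  have het : Etale φ.left := by
    have h := Groth.GrpschAbsch.etale_zpow (G := J) (n : ℤ) (by simpa using hn)
    rwa [zpow_natCast] at h
  let η₀ : Spec (CommRingCat.of k) ⟶ J.left := (η[J] : 𝟙_ _ ⟶ J).left
  have hη₀ : η₀ ≫ J.hom = 𝟙 _ := Over.w (η[J] : 𝟙_ _ ⟶ J)
  have hφg : g ≫ φ = toUnit _ ≫ η[J] := by
    rw [MonObj.comp_pow, Category.comp_id, hg]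
    rfl
  have hgl : g.left ≫ φ.left = (TK k Ω).hom ≫ η₀ := congrArg (fun m : TK k Ω ⟶ J => m.left) hφg
  let q : pullback φ.left η₀ ⟶ Spec (CommRingCat.of k) := pullback.snd _ _
  haveI : Etale q := MorphismProperty.pullback_snd (P := @Etale) _ _ het
  obtain ⟨L, -, hsep, s, hsq, hst⟩ := exists_stage q (pullback.lift g.left (TK k Ω).hom hgl)
    (pullback.lift_snd _ _ _)
  haveI : Algebra.IsSeparable k L := hsep inferInstance
  let ee : L ≃ₐ[k] k := (AlgEquiv.ofBijective (Algebra.ofId k L)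
    ⟨RingHom.injective _, IsSepClosed.algebraMap_surjective k L⟩).symm
  let s₀ : Spec (CommRingCat.of k) ⟶ pullback φ.left η₀ :=
    Spec.map (CommRingCat.ofHom ee.toAlgHom.toRingHom) ≫ s
  have hs₀ : s₀ ≫ q = 𝟙 _ := by
    rw [Category.assoc, hsq, ← Spec.map_comp, ← CommRingCat.ofHom_comp,
      show ee.toAlgHom.toRingHom.comp (algebraMap k L) = RingHom.id k from ee.toAlgHom.comp_algebraMap,
      CommRingCat.ofHom_id, Spec.map_id]
  have hs₀t : (TK k Ω).hom ≫ s₀ = pullback.lift g.left (TK k Ω).hom hgl := by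
    rw [← hst, ← Category.assoc]
    show (Spec.map _ ≫ Spec.map _) ≫ s = _
    rw [← Spec.map_comp, ← CommRingCat.ofHom_comp]
    congr 3
    refine RingHom.ext fun y => ?_
    show algebraMap k Ω (ee y) = _
    obtain ⟨x, rfl⟩ := IsSepClosed.algebraMap_surjective k L y
    rw [AlgEquiv.commutes]
    rfl
  have hw : (s₀ ≫ pullback.fst φ.left η₀) ≫ J.hom = (TK k k).hom := by
    rw [Category.assoc, ← Over.w φ, ← Category.assoc (pullback.fst _ _), pullback.condition]
    show s₀ ≫ (q ≫ η₀) ≫ J.hom = _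
    rw [← Category.assoc s₀, ← Category.assoc s₀, hs₀, Category.id_comp]
    exact hη₀.trans (Spec.map_id _).symm
  let h : TK k k ⟶ J := Over.homMk (s₀ ≫ pullback.fst φ.left η₀) hw
  have hτh : τ ≫ h = g := by
    refine Over.OverMorphism.ext ?_
    show Spec.map (CommRingCat.ofHom (Algebra.ofId k Ω).toRingHom) ≫ s₀ ≫ _ = g.left
    have : Spec.map (CommRingCat.ofHom (Algebra.ofId k Ω).toRingHom) = (TK k Ω).hom := rfl
    rw [this, ← Category.assoc, hs₀t, pullback.lift_fst]
  have hhn : h ^ n = 1 := by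
    have : h ≫ φ = toUnit _ ≫ η[J] := by
      refine Over.OverMorphism.ext ?_
      show (s₀ ≫ pullback.fst φ.left η₀) ≫ φ.left = (TK k k).hom ≫ η₀
      rw [Category.assoc, pullback.condition, ← Category.assoc,
        show s₀ ≫ pullback.snd φ.left η₀ = 𝟙 _ from hs₀]
      congr 1
      exact (Spec.map_id _).symm
    rw [MonObj.comp_pow, Category.comp_id] at this
    exact this.trans rfl
  refine ⟨⟨(Φ _ h).1, by rw [← SubgroupClass.coe_pow, ← map_pow, hhn, map_one]; rfl⟩, Subtype.ext ?_⟩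
  show pull (PicF.XTmap f τ) (e _ h).1 = c.1
  rw [← hnat, hτh]
  exact congrArg Subtype.val ((Φ _).apply_symm_apply _)

/-- `n ^ 2g` torsion classes over a separably closed field. -/
theorem card_tors_sepClosed [IsSepClosed k] [X.Over (Spec (CommRingCat.of k))]
    (hX : X ↘ Spec (CommRingCat.of k) = f) (hf : IsPtCurve f) (hσ : σ ≫ f = 𝟙 _) {n : ℕ}
    (hn : (n : k) ≠ 0) :
    Nat.card (Tors n (PicF.XT f (TK k k))) = n ^ (2 * Curv2.genus k X) :=
  (Nat.card_congr (Equiv.ofBijective _ (tors_map_bijective hf hσ hn (AlgebraicClosure k)))).trans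
    (card_tors_algClosed hX hf hσ (AlgebraicClosure k) hn)

/-- Base change twice. -/
noncomputable def bcTwice {K L : Type u} [Field K] [Field L] [Algebra k K] [Algebra k L] [Algebra K L]
    [IsScalarTower k K L] : PicF.XT (PicF.XTproj f (TK k K)) (TK K L) ≅ PicF.XT f (TK k L) :=
  pullbackLeftPullbackSndIso f (TK k K).hom (TK K L).hom ≪≫ pullback.congrHom rfl (by
    show Spec.map _ ≫ Spec.map _ = Spec.map _
    rw [← Spec.map_comp, ← CommRingCat.ofHom_comp, ← IsScalarTower.algebraMap_eq])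

theorem bcTwice_hom_snd {K L : Type u} [Field K] [Field L] [Algebra k K] [Algebra k L] [Algebra K L]
    [IsScalarTower k K L] :
    (bcTwice (f := f) (K := K) (L := L)).hom ≫ PicF.XTproj f (TK k L) =
      PicF.XTproj (PicF.XTproj f (TK k K)) (TK K L) := by
  simp [bcTwice]

/-- `n ^ 2g` torsion classes over a separably closed extension. -/
theorem card_tors_sepClosed_ext [X.Over (Spec (CommRingCat.of k))] (hX : X ↘ Spec (CommRingCat.of k) = f)
    (hf : IsPtCurve f) (hσ : σ ≫ f = 𝟙 _) (K : Type u) [Field K] [Algebra k K] [IsSepClosed K] {n : ℕ}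
    (hn : (n : k) ≠ 0) :
    Nat.card (Tors n (PicF.XT f (TK k K))) = n ^ (2 * Curv2.genus k X) := by
  subst hX
  let f := X ↘ Spec (CommRingCat.of k)
  obtain ⟨hfK, -⟩ := isPtCurve_bc hf hσ K
  letI : (PicF.XT f (TK k K)).Over (Spec (CommRingCat.of K)) := ⟨PicF.XTproj f (TK k K)⟩
  have hn' : (n : K) ≠ 0 := fun h => hn ((algebraMap k K).injective (by rw [map_natCast, h, map_zero]))
  have h := card_tors_sepClosed (k := K) (X := PicF.XT f (TK k K)) rfl hfK (secT_proj f σ hσ _) hn'
  have hgen : Curv2.genus K (PicF.XT f (TK k K)) = Curv2.genus k X :=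
    haveI := hf.proper
    Groth.Curves1.RR.finrank_structure
      (IsPullback.of_hasPullback f (Spec.map (CommRingCat.ofHom (algebraMap k K)))) 1
  rw [hgen] at h
  exact (Nat.card_congr (Tors.congr bcTwice)).trans h

/-- A torsion class over an algebraic extension comes from a finite stage. -/
theorem exists_tors_stage (hf : IsPtCurve f) (hσ : σ ≫ f = 𝟙 _) (K : Type u) [Field K] [Algebra k K]
    [Algebra.IsAlgebraic k K] {n : ℕ} (hn : n ≠ 0) (c : Tors n (PicF.XT f (TK k K))) :
    ∃ (L : IntermediateField k K), FiniteDimensional k L ∧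
      ∃ d : PicLoc.PicSet (PicF.XT f (TK k L)), pull (PicF.XTmap f (TKmap L.val)) d = c.1 := by
  have := hf.geomConn
  obtain ⟨H, Z, hZ, hHp, -⟩ := exists_proper_smooth_connected k X f hf.curve (genus f)
  obtain ⟨N, hN⟩ := exists_deg0_one hf hσ
  let pt : (TK k K).left := IsLocalRing.closedPoint K
  obtain ⟨W, hW⟩ := exists_divisor_of_point hf (c.1 * tw (TK k K) N ^ genus f) pt (by
    rw [degC_mulT hf, degC_of_pow_eq_one hf hn c.2, degC_powT hf, degC_fst hf, hN, _root_.mul_one,
      zero_add])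
  obtain ⟨t, ht, -⟩ := hZ _ W
  obtain ⟨L, hfin, -, s, hs, hst⟩ := exists_stage H.hom t.left (Over.w t)
  let tL : TK k L ⟶ H := Over.homMk s hs
  have hcomp : TKmap L.val ≫ tL = t := Over.OverMorphism.ext hst
  refine ⟨L, hfin, pull (PicF.XTmap f tL) (dC hf Z) * (tw (TK k L) N ^ genus f)⁻¹, ?_⟩
  rw [map_mul, map_inv, map_pow, tw_map, ← pull_comp, ← PicCurve.XTmap_comp', hcomp, pull_dC,
    dC_congr hf (W' := W) ht, hW, mul_inv_cancel_right]

/-- All torsion classes over a separably closed separable extension are defined at a finite stage. -/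
theorem exists_tors_full_stage [X.Over (Spec (CommRingCat.of k))] (hX : X ↘ Spec (CommRingCat.of k) = f)
    (hf : IsPtCurve f) (hσ : σ ≫ f = 𝟙 _) (K : Type u) [Field K] [Algebra k K] [IsSepClosed K]
    [Algebra.IsAlgebraic k K] {n : ℕ} (hn : (n : k) ≠ 0) :
    ∃ (L : IntermediateField k K), FiniteDimensional k L ∧
      Nat.card (Tors n (PicF.XT f (TK k L))) = n ^ (2 * Curv2.genus k X) := by
  have hn0 : n ≠ 0 := by rintro rfl; exact hn Nat.cast_zero
  have hcard := card_tors_sepClosed_ext hX hf hσ K hn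
  have : Finite (Tors n (PicF.XT f (TK k K))) :=
    Nat.finite_of_card_ne_zero (by rw [hcard]; exact pow_ne_zero _ hn0)
  choose Lc hLc dc hdc using fun c => exists_tors_stage hf hσ K hn0 (n := n) c
  let L : IntermediateField k K := ⨆ c, Lc c
  have : FiniteDimensional k L := IntermediateField.finiteDimensional_iSup_of_finite
  refine ⟨L, inferInstance, (Nat.card_congr (Equiv.ofBijective
    (Tors.map (n := n) (PicF.XTmap f (TKmap L.val))) ⟨fun a b h =>
      Subtype.ext (pull_TKmap_injective hf hσ _ (congrArg Subtype.val h)), fun c => ?_⟩)).trans hcard⟩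
  let d := pull (PicF.XTmap f (TKmap (IntermediateField.inclusion (le_iSup Lc c)))) (dc c)
  have hd : pull (PicF.XTmap f (TKmap L.val)) d = c.1 := by
    rw [← pull_comp, ← PicCurve.XTmap_comp', TKmap_comp]
    exact hdc c
  refine ⟨⟨d, pull_TKmap_injective hf hσ L.val ?_⟩, Subtype.ext hd⟩
  rw [map_pow, hd, c.2, map_one]

end Groth.ModelsGraphs.PicDim
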