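import Groth.Agent.ModelsGraphs.PicDim.PicZero
import Groth.Agent.PicAux.RigClasses
import Groth.Prelude.Def_FGA

/-!
# Degree zero classes and the genus in the language of the statements
-/

set_option autoImplicit false

universe u

open CategoryTheory CategoryTheory.Limits AlgebraicGeometry TopologicalSpace Opposite
open Groth.Abvar.PicCalc
open Groth.PicCurve

set_option maxHeartbeats 1600000
set_option backward.isDefEq.respectTransparency false
set_option backward.defeqAttrib.useBackward true
set_option backward.isDefEq.respectTransparency.types false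

namespace Groth.ModelsGraphs.PicDim

variable {k : Type u} [Field k] {X : Scheme.{u}} {f : X ⟶ Spec (CommRingCat.of k)}

/-- Degree zero in the sense of the Euler characteristic in degrees at most one. -/
theorem hasFibreDegreeZeroCl_iff (hf : IsPtCurve f) (T : Over (Spec (CommRingCat.of k)))
    (c : PicLoc.PicSet (PicF.XT f T)) :
    FGA.HasFibreDegreeZeroCl f T c.1 ↔ ∀ t, degC (PicF.XTproj f T) c t = 0 := by
  obtain ⟨L, hL, rfl⟩ := PicGrp.exists_eq_cls c
  have := hf.isProper_proj T
  have key : ∀ t : T.left, degC (PicF.XTproj f T) (cls hL) t = 0 ↔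
      FGA.eulerCharLE (T.left.residueField t) (FGA.fibreAt f T t).left (FGA.restrFibre f T t L) 1 =
      FGA.eulerCharLE (T.left.residueField t) (FGA.fibreAt f T t).left (Coh.structureModule _) 1 := by
    intro t
    letI : ((PicF.XTproj f T).fiber t).Over (Spec (CommRingCat.of (T.left.residueField t))) :=
      ⟨(PicF.XTproj f T).fiberToSpecResidueField t⟩
    obtain ⟨e⟩ := Groth.PicAux.pullback_structure_iso ((PicF.XTproj f T).fiberι t)
    have h0 := Groth.EulerDeg.finrank_congr (k := T.left.residueField t) e 0
    have h1 := Groth.EulerDeg.finrank_congr (k := T.left.residueField t) e 1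
    rw [degC_cls, fibEuler_eq_sub _ (hf.dim_fiber T), fibEuler_eq_sub _ (hf.dim_fiber T)]
    simp only [FGA.eulerCharLE, Finset.sum_range_succ, Finset.sum_range_zero]
    show ((CohIII.fiberRank (PicF.XTproj f T) L 0 t : ℤ) - CohIII.fiberRank (PicF.XTproj f T) L 1 t -
      ((Module.finrank (T.left.residueField t) (Coh.HH ((PicF.XTproj f T).fiber t)
        ((Scheme.Modules.pullback ((PicF.XTproj f T).fiberι t)).obj (Coh.structureModule _)) 0) : ℤ) -
       (Module.finrank (T.left.residueField t) (Coh.HH ((PicF.XTproj f T).fiber t)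
        ((Scheme.Modules.pullback ((PicF.XTproj f T).fiberι t)).obj (Coh.structureModule _)) 1) : ℤ)) = 0) ↔
      (0 + (-1 : ℤ) ^ 0 * (CohIII.fiberRank (PicF.XTproj f T) L 0 t : ℤ) +
        (-1 : ℤ) ^ 1 * (CohIII.fiberRank (PicF.XTproj f T) L 1 t : ℤ) =
      0 + (-1 : ℤ) ^ 0 * (Module.finrank (T.left.residueField t)
          (Coh.HH ((PicF.XTproj f T).fiber t) (Coh.structureModule _) 0) : ℤ) +
        (-1 : ℤ) ^ 1 * (Module.finrank (T.left.residueField t)
          (Coh.HH ((PicF.XTproj f T).fiber t) (Coh.structureModule _) 1) : ℤ))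
    rw [h0, h1]
    constructor <;> intro h <;> simp only [pow_zero, pow_one] at * <;> linarith
  refine ⟨fun ⟨M, hMc, hM⟩ t => ?_, fun h => ⟨L, rfl, fun t => (key t).1 (h t)⟩⟩
  obtain ⟨e⟩ : Nonempty (M ≅ L) := (PicGrp.cl_eq_cl_iff M L).1 hMc
  refine (key t).2 ?_
  have hq := hM t
  letI : (pullback (PicF.XTproj f T) (T.left.fromSpecResidueField t)).Over
      (Spec (CommRingCat.of (T.left.residueField t))) :=
    ⟨pullback.snd (PicF.XTproj f T) (T.left.fromSpecResidueField t)⟩
  have hc : ∀ i, Module.finrank (T.left.residueField t)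
      (Coh.HH (FGA.fibreAt f T t).left (FGA.restrFibre f T t L) i) =
      Module.finrank (T.left.residueField t)
      (Coh.HH (FGA.fibreAt f T t).left (FGA.restrFibre f T t M) i) := fun i =>
    (Groth.EulerDeg.finrank_congr (k := T.left.residueField t)
      ((Scheme.Modules.pullback (pullback.fst (PicF.XTproj f T) (T.left.fromSpecResidueField t))).mapIso e) i).symm
  simp only [FGA.eulerCharLE] at hq ⊢
  simpa only [hc] using hq

/-- The genus is the rank of the first cohomology of the structure sheaf. -/
theorem finrank_H1_eq_genus [X.Over (Spec (CommRingCat.of k))] (hX : X ↘ Spec (CommRingCat.of k) = f)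
    (hf : IsPtCurve f) :
    Module.finrank k (Coh.HH X (Coh.structureModule X) 1) = genus f := by
  subst hX
  let s : Spec (CommRingCat.of k) := IsLocalRing.closedPoint k
  let K := (Spec (CommRingCat.of k)).residueField s
  let φ := Spec.preimage ((Spec (CommRingCat.of k)).fromSpecResidueField s)
  letI : Algebra k K := φ.hom.toAlgebra
  letI : ((X ↘ Spec (CommRingCat.of k)).fiber s).Over (Spec (CommRingCat.of K)) :=
    ⟨(X ↘ Spec (CommRingCat.of k)).fiberToSpecResidueField s⟩
  have hsq : Groth.CohBase.IsBC (A := k) (A' := K) ((X ↘ Spec (CommRingCat.of k)).fiberι s) := by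
    have h := IsPullback.of_hasPullback (X ↘ Spec (CommRingCat.of k))
      ((Spec (CommRingCat.of k)).fromSpecResidueField s)
    have e : Spec.map (CommRingCat.ofHom (algebraMap k K)) =
        (Spec (CommRingCat.of k)).fromSpecResidueField s := Spec.map_preimage _
    show IsPullback _ _ _ _
    rw [e]
    exact h
  have := hf.proper
  have : X.IsSeparated := Groth.CohFin.isSeparated_of_proper (A := k) (X ↘ Spec (CommRingCat.of k))
  have : CompactSpace X := Groth.CohFin.compactSpace_of_proper (A := k) (X ↘ Spec (CommRingCat.of k))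
  have : (Coh.structureModule X).IsQuasicoherent :=
    (model_hyps (π := X ↘ Spec (CommRingCat.of k)) (L := Coh.structureModule X)
      (PicLoc.isInvertible_structureModule X)).1
  exact (Groth.CohTwo.finrank_HH_fieldExt hsq (Coh.structureModule X) 1).symm

end Groth.ModelsGraphs.PicDim
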