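import Groth.Agent.ModelsGraphs.PicDiv.Rep
import Groth.Agent.ModelsGraphs.PicDim.HilbDim

/-!
# The local dimension of the rigidified Picard scheme of a curve is the genus
-/

set_option autoImplicit false

universe u

open CategoryTheory CategoryTheory.Limits AlgebraicGeometry TopologicalSpace
open Groth.PicCurve

set_option backward.isDefEq.respectTransparency false
set_option backward.defeqAttrib.useBackward true
set_option backward.isDefEq.respectTransparency.types false

namespace Groth.ModelsGraphs.PicDim

variable {k : Type u} [Field k] {X : Scheme.{u}} {f : X ⟶ Spec (CommRingCat.of k)}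
  {σ : Spec (CommRingCat.of k) ⟶ X} {hσ : σ ≫ f = 𝟙 (Spec (CommRingCat.of k))}

/-- The local dimension of a scheme representing the rigidified Picard functor is the genus. -/
theorem localDim_eq_genus [IsSepClosed k] (hf : IsPtCurve f) {P : Over (Spec (CommRingCat.of k))}
    (r : (rigFun f σ hσ).RepresentableBy P) (x : P.left) :
    FlatMor.localDim P.left x = genus f := by
  obtain ⟨H, Z, hZ, -, -, hd⟩ := exists_proper_smooth_dim k X f hf.curve (genus f)
  obtain ⟨D, hD⟩ := PicDiv.exists_atlas (σ := σ) (hσ := hσ) hf H Z hZ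
  obtain ⟨i, V, e, hxV, -⟩ := PicDiv.exists_chart_of_atlas D r x
  obtain ⟨O, hO⟩ := hD i
  let j : (D.H i).left ⟶ P.left := e.hom ≫ V.ι
  obtain ⟨y, hy⟩ : ∃ y, j y = x := ⟨e.inv ⟨x, hxV⟩,
    congrArg (fun m : V.toScheme ⟶ P.left => m ⟨x, hxV⟩) (e.inv_hom_id_assoc V.ι)⟩
  rw [← hy, ← Groth.DescentBase.localDim_eq_of_etale j y]
  clear hy
  revert y
  rw [hO]
  intro y
  show FlatMor.localDim O.toScheme y = _
  rw [Groth.DescentBase.localDim_eq_of_etale O.ι y]
  exact hd _

end Groth.ModelsGraphs.PicDim
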