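import Groth.Agent.EtaleBase.KummerH1
import Groth.Agent.EtaleBase.MuConst
import Groth.Agent.Abvar.PicCalc

/-!
# `H¹(X_et, ℤ/n)` is the `n`-torsion of the Picard group when the units are divisible
-/

set_option autoImplicit false
set_option backward.isDefEq.respectTransparency.types false

universe u

open CategoryTheory Limits AlgebraicGeometry Opposite
open CategoryTheory.Abelian (Ext)
open Groth.Abvar.PicCalc
open scoped Groth.Abvar.PicCalc

namespace Groth.ModelsGraphs.PicDim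

open Groth.EtaleBase.GmPic

set_option maxHeartbeats 800000

/-- With `n`-divisible units and an `n`-th root of unity, `H¹(X, ℤ/n) ≅ Pic(X)[n]`. -/
theorem nonempty_H1_const_addEquiv (X : Scheme.{u}) [PicGrp.Law X] (n : ℕ) (hn0 : 1 ≤ n)
    (hn : IsUnit (n : Γ(X, ⊤))) (ζ : Γ(X, ⊤))
    (hζ : Polynomial.aeval ζ (Polynomial.cyclotomic n ℤ) = 0)
    (hdiv : ∀ a : (Γ(X, ⊤) : Type u)ˣ, ∃ b, b ^ n = a) :
    Nonempty (EtCoh.H X (EtCoh.const X (ZMod n)) 1 ≃+
      (nsmulAddMonoidHom n : Additive (PicLoc.PicSet X) →+ Additive (PicLoc.PicSet X)).ker) := by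
  obtain ⟨e⟩ := Groth.EtaleBase.nonempty_mu_iso_const (X := X) n hn0 hn ζ hζ
  obtain ⟨P⟩ := PicH1.nonempty_addEquiv (X := X)
  have hS := Groth.EtaleBase.KummerH1.seq_shortExact X n hn
  let ι : EtCoh.H X (EtCoh.mu X n) 1 →+ Additive (PicLoc.PicSet X) :=
    P.symm.toAddMonoidHom.comp
      (AddMonoidHom.mk' (fun c => c.comp (Ext.mk₀ (EtCoh.muι X n)) (add_zero 1))
        fun a b => Ext.add_comp _ _ _ _)
  have hpow : ∀ c : EtCoh.H X (EtCoh.Gm X) 1,
      c.comp (Ext.mk₀ (EtCoh.powMap X n)) (add_zero 1) = n • c := by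
    intro c
    let φ : (EtCoh.Gm X ⟶ EtCoh.Gm X) →+ EtCoh.H X (EtCoh.Gm X) 1 :=
      AddMonoidHom.mk' (fun m => c.comp (Ext.mk₀ m) (add_zero 1)) fun a b => by
        rw [Ext.mk₀_add, Ext.comp_add]
    show φ (n • 𝟙 (EtCoh.Gm X)) = n • c
    rw [map_nsmul]
    exact congrArg (n • ·) (Ext.comp_mk₀_id c)
  have hinj : Function.Injective ι := by
    refine (injective_iff_map_eq_zero ι).2 fun c hc => ?_
    have h' : c.comp (Ext.mk₀ (EtCoh.muι X n)) (add_zero 1) = 0 :=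
      P.symm.injective (hc.trans (map_zero _).symm)
    obtain ⟨y, hy⟩ := Ext.covariant_sequence_exact₁ _ hS c h' (zero_add 1)
    obtain ⟨z, rfl⟩ := (Ext.mk₀_bijective _ _).2 y
    let ev := Groth.EtaleBase.EtLimit.Resn.ev (EtCoh.Gm X)
    obtain ⟨a, ha⟩ := gm_surjective (EtCoh.top X) (ev z)
    obtain ⟨b, rfl⟩ := hdiv a
    rw [← hy]
    have h0 : z = ev.symm (gm (EtCoh.top X) b) ≫ EtCoh.powMap X n := by
      apply ev.injective
      refine ha.symm.trans ((Groth.EtaleBase.KummerH1.gm_pow X n (EtCoh.top X) b).trans ?_)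
      rw [EtCoh.powMap, Preadditive.comp_nsmul, Category.comp_id, map_nsmul, AddEquiv.apply_symm_apply]
    rw [h0]
    exact (Ext.mk₀_comp_mk₀_assoc _ _ _).symm.trans
      ((congrArg (fun w => Ext.comp (Ext.mk₀ _) w (zero_add 1)) hS.comp_extClass).trans
        (Ext.comp_zero _ _ _ _ _))
  have hrange : ι.range = (nsmulAddMonoidHom n : Additive (PicLoc.PicSet X) →+ _).ker := by
    ext x
    rw [AddMonoidHom.mem_range, AddMonoidHom.mem_ker, nsmulAddMonoidHom_apply]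
    constructor
    · rintro ⟨c, rfl⟩
      show n • P.symm (c.comp (Ext.mk₀ (EtCoh.muι X n)) (add_zero 1)) = 0
      rw [← map_nsmul, ← hpow, Ext.comp_assoc_of_second_deg_zero, Ext.mk₀_comp_mk₀,
        show EtCoh.muι X n ≫ EtCoh.powMap X n = 0 from kernel.condition _, Ext.mk₀_zero, Ext.comp_zero,
        map_zero]
    · intro hx
      obtain ⟨c, hc⟩ := Ext.covariant_sequence_exact₂ _ hS (P x)
        ((hpow (P x)).trans (by rw [← map_nsmul, hx, map_zero]; rfl))
      exact ⟨c, (congrArg P.symm hc).trans (P.symm_apply_apply x)⟩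
  let F : EtCoh.H X (EtCoh.const X (ZMod n)) 1 ≃+ EtCoh.H X (EtCoh.mu X n) 1 :=
    { toFun := fun c => c.comp (Ext.mk₀ e.inv) (add_zero 1)
      invFun := fun c => c.comp (Ext.mk₀ e.hom) (add_zero 1)
      left_inv := fun c => by
        show (c.comp (Ext.mk₀ e.inv) (add_zero 1)).comp (Ext.mk₀ e.hom) (add_zero 1) = c
        rw [Ext.comp_assoc_of_second_deg_zero, Ext.mk₀_comp_mk₀, e.inv_hom_id, Ext.comp_mk₀_id]
      right_inv := fun c => by
        show (c.comp (Ext.mk₀ e.hom) (add_zero 1)).comp (Ext.mk₀ e.inv) (add_zero 1) = c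
        rw [Ext.comp_assoc_of_second_deg_zero, Ext.mk₀_comp_mk₀, e.hom_inv_id, Ext.comp_mk₀_id]
      map_add' := fun a b => Ext.add_comp _ _ _ _ }
  exact ⟨(F.trans (AddMonoidHom.ofInjective hinj)).trans (AddEquiv.addSubgroupCongr hrange)⟩

/-- With vanishing `H²(X, 𝔾ₘ)` and an `n`-th root of unity, `H²(X, ℤ/n) ≅ Pic(X) / n`. -/
theorem nonempty_H2_const_addEquiv (X : Scheme.{u}) [PicGrp.Law X] (n : ℕ) (hn0 : 1 ≤ n)
    (hn : IsUnit (n : Γ(X, ⊤))) (ζ : Γ(X, ⊤))
    (hζ : Polynomial.aeval ζ (Polynomial.cyclotomic n ℤ) = 0)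
    [Subsingleton (EtCoh.H X (EtCoh.Gm X) 2)] :
    Nonempty (EtCoh.H X (EtCoh.const X (ZMod n)) 2 ≃+ Additive (PicLoc.PicSet X) ⧸
      (nsmulAddMonoidHom n : Additive (PicLoc.PicSet X) →+ Additive (PicLoc.PicSet X)).range) := by
  obtain ⟨e⟩ := Groth.EtaleBase.nonempty_mu_iso_const (X := X) n hn0 hn ζ hζ
  obtain ⟨P⟩ := PicH1.nonempty_addEquiv (X := X)
  have hS := Groth.EtaleBase.KummerH1.seq_shortExact X n hn
  have hpow : ∀ c : EtCoh.H X (EtCoh.Gm X) 1,
      c.comp (Ext.mk₀ (EtCoh.powMap X n)) (add_zero 1) = n • c := by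
    intro c
    let φ : (EtCoh.Gm X ⟶ EtCoh.Gm X) →+ EtCoh.H X (EtCoh.Gm X) 1 :=
      AddMonoidHom.mk' (fun m => c.comp (Ext.mk₀ m) (add_zero 1)) fun a b => by
        rw [Ext.mk₀_add, Ext.comp_add]
    show φ (n • 𝟙 (EtCoh.Gm X)) = n • c
    rw [map_nsmul]
    exact congrArg (n • ·) (Ext.comp_mk₀_id c)
  let δ : Additive (PicLoc.PicSet X) →+ EtCoh.H X (EtCoh.mu X n) 2 :=
    (AddMonoidHom.mk' (fun c : EtCoh.H X (EtCoh.Gm X) 1 => c.comp hS.extClass (show 1 + 1 = 2 from rfl))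
      fun a b => Ext.add_comp _ _ _ _).comp P.toAddMonoidHom
  have hsurj : Function.Surjective δ := fun c => by
    obtain ⟨y, hy⟩ := Ext.covariant_sequence_exact₁ _ hS c
      (Subsingleton.elim (α := EtCoh.H X (EtCoh.Gm X) 2) _ _) (show 1 + 1 = 2 from rfl)
    exact ⟨P.symm y, (congrArg (fun z : EtCoh.H X (EtCoh.Gm X) 1 => z.comp hS.extClass _)
      (P.apply_symm_apply y)).trans hy⟩
  have hker : δ.ker = (nsmulAddMonoidHom n : Additive (PicLoc.PicSet X) →+ _).range := by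
    ext x
    rw [AddMonoidHom.mem_range, AddMonoidHom.mem_ker]
    constructor
    · intro hx
      obtain ⟨y, hy⟩ := Ext.covariant_sequence_exact₃ _ hS (P x) (show 1 + 1 = 2 from rfl) hx
      refine ⟨P.symm y, P.injective ?_⟩
      rw [nsmulAddMonoidHom_apply, map_nsmul, AddEquiv.apply_symm_apply, ← hpow]
      exact hy
    · rintro ⟨y, rfl⟩
      show (P (n • y)).comp hS.extClass (show 1 + 1 = 2 from rfl) = 0
      rw [map_nsmul, ← hpow]
      exact (Ext.comp_assoc_of_second_deg_zero _ _ _ _).trans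
        ((congrArg (fun w => Ext.comp (P y) w (show 1 + 1 = 2 from rfl)) hS.comp_extClass).trans
          (Ext.comp_zero _ _ _ _ _))
  let F : EtCoh.H X (EtCoh.const X (ZMod n)) 2 ≃+ EtCoh.H X (EtCoh.mu X n) 2 :=
    { toFun := fun c => c.comp (Ext.mk₀ e.inv) (add_zero 2)
      invFun := fun c => c.comp (Ext.mk₀ e.hom) (add_zero 2)
      left_inv := fun c => by
        show (c.comp (Ext.mk₀ e.inv) (add_zero 2)).comp (Ext.mk₀ e.hom) (add_zero 2) = c
        rw [Ext.comp_assoc_of_second_deg_zero, Ext.mk₀_comp_mk₀, e.inv_hom_id, Ext.comp_mk₀_id]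
      right_inv := fun c => by
        show (c.comp (Ext.mk₀ e.hom) (add_zero 2)).comp (Ext.mk₀ e.inv) (add_zero 2) = c
        rw [Ext.comp_assoc_of_second_deg_zero, Ext.mk₀_comp_mk₀, e.hom_inv_id, Ext.comp_mk₀_id]
      map_add' := fun a b => Ext.add_comp _ _ _ _ }
  exact ⟨(F.trans (QuotientAddGroup.quotientKerEquivOfSurjective δ hsurj).symm).trans
    (QuotientAddGroup.quotientAddEquivOfEq hker)⟩

end Groth.ModelsGraphs.PicDim
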