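import Groth.Agent.ModelsGraphs.PicDim.TorsSep
import Groth.Agent.CurveBridge.BaseChange
import Groth.Agent.AlgGrp1.Points

/-!
# A separable extension with a point and full torsion in the Picard group
-/

set_option autoImplicit false

universe u

open CategoryTheory CategoryTheory.Limits MonoidalCategory CartesianMonoidalCategory AlgebraicGeometry
  TopologicalSpace Opposite
open Groth.Abvar.PicCalc
open Groth.PicCurve

set_option maxHeartbeats 1600000
set_option backward.isDefEq.respectTransparency false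
set_option backward.defeqAttrib.useBackward true
set_option backward.isDefEq.respectTransparency.types false

namespace Groth.ModelsGraphs.PicDim

variable (k : Type u) [Field k] (X : Scheme.{u}) [X.Over (Spec (CommRingCat.of k))]
  [IsIntegral X] [IsProper (X ↘ Spec (CommRingCat.of k))] [Smooth (X ↘ Spec (CommRingCat.of k))]

/-- A point over a finite separable extension. -/
theorem exists_sep_point (K : Type u) [Field K] [Algebra k K] [IsSepClosed K] [Algebra.IsSeparable k K] :
    ∃ (k₁ : IntermediateField k K), FiniteDimensional k k₁ ∧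
      ∃ x : Spec (CommRingCat.of k₁) ⟶ Curv2.bc k X k₁, x ≫ Curv2.bcSnd k X k₁ = 𝟙 _ := by
  let p := X ↘ Spec (CommRingCat.of k)
  let Xs : Over (Spec (CommRingCat.of K)) := Over.mk (Curv2.bcSnd k X K)
  haveI : Smooth Xs.hom := MorphismProperty.pullback_snd (P := @Smooth) _ _ ‹_›
  haveI : GeometricallyReduced Xs.hom := Groth.GrpschAbsch.FibreFlat.geometricallyReduced_of_smooth Xs.hom
  haveI : Surjective (Spec.map (CommRingCat.ofHom (algebraMap k K))) :=
    ⟨fun y => ⟨(IsLocalRing.closedPoint K : Spec (CommRingCat.of K)),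
      Subsingleton.elim (α := PrimeSpectrum k) _ _⟩⟩
  haveI : Surjective (Curv2.bcFst k X K) := MorphismProperty.pullback_fst (P := @Surjective) _ _ ‹_›
  obtain ⟨x₀⟩ : Nonempty X := inferInstance
  obtain ⟨z, -⟩ := (Curv2.bcFst k X K).surjective x₀
  obtain ⟨s, -⟩ := Groth.AlgGrp1.exists_point_mem Xs ⊤ ⟨z, trivial⟩
  let t : Spec (CommRingCat.of K) ⟶ X := s.left ≫ Curv2.bcFst k X K
  have ht : t ≫ p = Spec.map (CommRingCat.ofHom (algebraMap k K)) := by
    rw [Category.assoc, pullback.condition, ← Category.assoc]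
    have h1 : (s.left ≫ Curv2.bcSnd k X K : Spec (CommRingCat.of K) ⟶ Spec (CommRingCat.of K)) = 𝟙 _ := Over.w s
    exact (congrArg (· ≫ Spec.map (CommRingCat.ofHom (algebraMap k K))) h1).trans (Category.id_comp _)
  obtain ⟨L, hfin, -, x, hx, -⟩ := exists_stage p t ht
  exact ⟨L, hfin, pullback.lift x (𝟙 _) (by rw [Category.id_comp]; exact hx), pullback.lift_snd _ _ _⟩

/-- Over an extension with a point the curve is a pointed curve. -/
theorem isPtCurve_of_point (hdim : topologicalKrullDim X = 1)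
    (h0 : Module.finrank k (Coh.HH X (Coh.structureModule X) 0) = 1) (K : Type u) [Field K] [Algebra k K]
    {x : Spec (CommRingCat.of K) ⟶ Curv2.bc k X K} (hx : x ≫ Curv2.bcSnd k X K = 𝟙 _) :
    IsPtCurve (Curv2.bcSnd k X K) ∧
      letI : (Curv2.bc k X K).Over (Spec (CommRingCat.of K)) := ⟨Curv2.bcSnd k X K⟩
      Curv2.genus K (Curv2.bc k X K) = Curv2.genus k X := by
  letI : (Curv2.bc k X K).Over (Spec (CommRingCat.of K)) := ⟨Curv2.bcSnd k X K⟩
  haveI : IsProper (Curv2.bc k X K ↘ Spec (CommRingCat.of K)) :=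
    MorphismProperty.pullback_snd (P := @IsProper) _ _ ‹_›
  haveI : Smooth (Curv2.bc k X K ↘ Spec (CommRingCat.of K)) :=
    MorphismProperty.pullback_snd (P := @Smooth) _ _ ‹_›
  have hpb : IsPullback (Curv2.bcFst k X K) (Curv2.bc k X K ↘ Spec (CommRingCat.of K))
      (X ↘ Spec (CommRingCat.of k)) (Spec.map (CommRingCat.ofHom (algebraMap k K))) :=
    IsPullback.of_hasPullback _ _
  have h0' : Module.finrank K (Coh.HH (Curv2.bc k X K) (Coh.structureModule _) 0) = 1 :=
    (Groth.Curves1.RR.finrank_structure hpb 0).trans h0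
  haveI := Groth.CurveBridge.isIntegral_bar K (Curv2.bc k X K) h0'
  haveI : ConnectedSpace (Groth.CurveBridge.Xb K (Curv2.bc k X K)) := inferInstance
  haveI : ConnectedSpace (Curv2.bc k X K) :=
    (Groth.CurveBridge.proj K (Curv2.bc k X K)).surjective.connectedSpace
      (Groth.CurveBridge.proj K (Curv2.bc k X K)).continuous
  haveI : IsIntegral (Curv2.bc k X K) := Groth.CurveBridge.isIntegral_of_smooth K _
  exact ⟨isPtCurve ⟨‹_›, ‹_›, ‹_›,
    (Groth.Curves1.RR.dim_of_isPullback (X ↘ Spec (CommRingCat.of k)) _ hpb).trans hdim⟩ x hx,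
    Groth.Curves1.RR.finrank_structure hpb 1⟩

omit [IsIntegral X] [IsProper (X ↘ Spec (CommRingCat.of k))] [Smooth (X ↘ Spec (CommRingCat.of k))] in
/-- Transport along a tower of extensions. -/
theorem of_tower (K L : Type u) [Field K] [Field L] [Algebra k K] [Algebra k L] [Algebra K L]
    [IsScalarTower k K L] {x : Spec (CommRingCat.of K) ⟶ Curv2.bc k X K}
    (hx : x ≫ Curv2.bcSnd k X K = 𝟙 _) {n N : ℕ}
    (hc : Nat.card (Tors n (PicF.XT (Curv2.bcSnd k X K) (TK K L))) = N) :
    (∃ x : Spec (CommRingCat.of L) ⟶ Curv2.bc k X L, x ≫ Curv2.bcSnd k X L = 𝟙 _) ∧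
      Nat.card {c : PicF.Cl (Curv2.bc k X L) | ∃ M : Scheme.Modules (Curv2.bc k X L), PicF.cl M = c ∧
        PicF.IsInvertible M ∧ Nonempty (CohB1.tensorPow M n ≅ Coh.structureModule (Curv2.bc k X L))} = N := by
  let e := bcTwice (f := X ↘ Spec (CommRingCat.of k)) (K := K) (L := L)
  refine ⟨⟨PicF.secT (Curv2.bcSnd k X K) x hx (TK K L) ≫ e.hom, ?_⟩, ?_⟩
  · show (PicF.secT (Curv2.bcSnd k X K) x hx (TK K L) ≫ e.hom) ≫
      PicF.XTproj (X ↘ Spec (CommRingCat.of k)) (TK k L) = _
    rw [Category.assoc, bcTwice_hom_snd]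
    exact secT_proj (Curv2.bcSnd k X K) x hx (TK K L)
  · rw [card_cl_eq]
    exact (Nat.card_congr (Tors.congr e)).trans hc

/-- A finite separable extension with a rational point and `n ^ 2g` torsion classes. -/
theorem exists_sep_ext_full_tors (hdim : topologicalKrullDim X = 1)
    (h0 : Module.finrank k (Coh.HH X (Coh.structureModule X) 0) = 1) (n : ℕ) (hn : (n : k) ≠ 0) :
    ∃ (k' : Type u) (_ : Field k') (_ : Algebra k k'), FiniteDimensional k k' ∧ Algebra.IsSeparable k k' ∧
      (∃ x : Spec (CommRingCat.of k') ⟶ Curv2.bc k X k', x ≫ Curv2.bcSnd k X k' = 𝟙 _) ∧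
      Nat.card {c : PicF.Cl (Curv2.bc k X k') | ∃ M : Scheme.Modules (Curv2.bc k X k'), PicF.cl M = c ∧
        PicF.IsInvertible M ∧ Nonempty (CohB1.tensorPow M n ≅ Coh.structureModule (Curv2.bc k X k'))} =
        n ^ (2 * Curv2.genus k X) := by
  let ks := SeparableClosure k
  obtain ⟨k₁, hk₁, x, hx⟩ := exists_sep_point k X ks
  obtain ⟨hf₁, hg₁⟩ := isPtCurve_of_point k X hdim h0 k₁ hx
  letI : (Curv2.bc k X k₁).Over (Spec (CommRingCat.of k₁)) := ⟨Curv2.bcSnd k X k₁⟩
  have : Algebra.IsAlgebraic k₁ ks := Algebra.IsAlgebraic.tower_top (K := k) k₁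
  have hn₁ : (n : k₁) ≠ 0 := fun h => hn ((algebraMap k k₁).injective (by rw [map_natCast, h, map_zero]))
  obtain ⟨L, hL, hcard⟩ := exists_tors_full_stage rfl hf₁ hx ks hn₁
  have : FiniteDimensional k L := FiniteDimensional.trans k k₁ L
  haveI : IsScalarTower k L ks := IsScalarTower.of_algebraMap_eq fun a => by
    rw [IsScalarTower.algebraMap_apply k k₁ ks, IsScalarTower.algebraMap_apply k k₁ L]
    exact IsScalarTower.algebraMap_apply k₁ L ks _
  have hs : Algebra.IsSeparable k L := Algebra.isSeparable_tower_bot_of_isSeparable k L ks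
  obtain ⟨hpt, hc⟩ := of_tower k X k₁ L hx (hcard.trans (congrArg (fun g => n ^ (2 * g)) hg₁))
  exact ⟨L, inferInstance, inferInstance, ‹_›, hs, hpt, hc⟩

end Groth.ModelsGraphs.PicDim
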