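import Groth.Agent.ModelsGraphs.PicDim.FullTors
import Groth.Agent.ModelsGraphs.PicDim.GaloisDesc
import Groth.Agent.CurveBridge.CanonicalPoint
import Mathlib.GroupTheory.Perm.Basic
import Mathlib.FieldTheory.Normal.Closure

/-!
# Full torsion over an extension of bounded degree
-/

set_option autoImplicit false

universe u

open CategoryTheory CategoryTheory.Limits AlgebraicGeometry TopologicalSpace Opposite
open Groth.Abvar.PicCalc
open Groth.PicCurve
open scoped Groth.PicAux Groth.Chow Groth.FunFld1 Groth.CurveBridge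

set_option maxHeartbeats 1600000
set_option synthInstance.maxHeartbeats 200000
set_option backward.isDefEq.respectTransparency false
set_option backward.defeqAttrib.useBackward true
set_option backward.isDefEq.respectTransparency.types false

namespace Groth.ModelsGraphs.PicDim

variable {k : Type u} [Field k] {X : Scheme.{u}} {f : X ⟶ Spec (CommRingCat.of k)}
  {σ : Spec (CommRingCat.of k) ⟶ X}

theorem Tors.map_TKmap_injective (hf : IsPtCurve f) (hσ : σ ≫ f = 𝟙 _) {n : ℕ} {K K' : Type u} [Field K]
    [Field K'] [Algebra k K] [Algebra k K'] (φ : K →ₐ[k] K') :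
    Function.Injective (Tors.map (n := n) (PicF.XTmap f (TKmap φ))) := fun _ _ h =>
  Subtype.ext (pull_TKmap_injective hf hσ φ (congrArg Subtype.val h))

theorem Tors.map_TKmap_comp {n : ℕ} {K K' K'' : Type u} [Field K] [Field K'] [Field K''] [Algebra k K]
    [Algebra k K'] [Algebra k K''] (φ : K →ₐ[k] K') (ψ : K' →ₐ[k] K'') (c : Tors n (PicF.XT f (TK k K))) :
    Tors.map (PicF.XTmap f (TKmap (ψ.comp φ))) c =
      Tors.map (PicF.XTmap f (TKmap ψ)) (Tors.map (PicF.XTmap f (TKmap φ)) c) := by
  refine Subtype.ext ?_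
  show pull _ c.1 = pull _ (pull _ c.1)
  rw [← pull_comp, ← PicCurve.XTmap_comp', TKmap_comp]

theorem Tors.map_TKmap_id {n : ℕ} {K : Type u} [Field K] [Algebra k K] (c : Tors n (PicF.XT f (TK k K))) :
    Tors.map (PicF.XTmap f (TKmap (AlgHom.id k K))) c = c := by
  refine Subtype.ext ?_
  show pull _ c.1 = c.1
  have h : TKmap (AlgHom.id k K) = 𝟙 (TK k K) := Over.OverMorphism.ext (Spec.map_id _)
  rw [h, PicCurve.XTmap_id', pull_id]

/-- The Galois group permutes the torsion classes. -/
noncomputable def galTors (f : X ⟶ Spec (CommRingCat.of k)) (n : ℕ) (N : Type u) [Field N] [Algebra k N] :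
    (N ≃ₐ[k] N) →* Equiv.Perm (Tors n (PicF.XT f (TK k N))) where
  toFun g :=
    { toFun := Tors.map (PicF.XTmap f (TKmap (g : N →ₐ[k] N)))
      invFun := Tors.map (PicF.XTmap f (TKmap (g.symm : N →ₐ[k] N)))
      left_inv := fun c => by rw [← Tors.map_TKmap_comp, g.symm_comp, Tors.map_TKmap_id]
      right_inv := fun c => by rw [← Tors.map_TKmap_comp, g.comp_symm, Tors.map_TKmap_id] }
  map_one' := Equiv.ext fun c => Tors.map_TKmap_id c
  map_mul' g h := Equiv.ext fun c => Tors.map_TKmap_comp (h : N →ₐ[k] N) (g : N →ₐ[k] N) c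

/-- Full torsion over a separable extension of degree at most `(n ^ 2g)!`. -/
theorem exists_tors_full_bound [X.Over (Spec (CommRingCat.of k))] (hX : X ↘ Spec (CommRingCat.of k) = f)
    (hf : IsPtCurve f) (hσ : σ ≫ f = 𝟙 _) {n : ℕ} (hn : (n : k) ≠ 0) :
    ∃ (L : Type u) (_ : Field L) (_ : Algebra k L), FiniteDimensional k L ∧ Algebra.IsSeparable k L ∧
      Module.finrank k L ≤ Nat.factorial (n ^ (2 * Curv2.genus k X)) ∧
      Nat.card (Tors n (PicF.XT f (TK k L))) = n ^ (2 * Curv2.genus k X) := by
  classical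
  let ks := SeparableClosure k
  have hn0 : n ≠ 0 := by rintro rfl; exact hn Nat.cast_zero
  obtain ⟨L₀, hL₀, hcard₀⟩ := exists_tors_full_stage hX hf hσ ks hn
  let N : IntermediateField k ks := IntermediateField.normalClosure k L₀ ks
  have : FiniteDimensional k N := inferInstance
  have : Normal k N := inferInstance
  have : Algebra.IsSeparable k N := Algebra.isSeparable_tower_bot_of_isSeparable k N ks
  have : IsGalois k N := ⟨⟩
  have hks := card_tors_sepClosed_ext hX hf hσ ks hn
  have hfin : Finite (Tors n (PicF.XT f (TK k ks))) :=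
    Nat.finite_of_card_ne_zero (by rw [hks]; exact pow_ne_zero _ hn0)
  have : Finite (Tors n (PicF.XT f (TK k N))) :=
    Finite.of_injective _ (Tors.map_TKmap_injective hf hσ N.val)
  have hN : Nat.card (Tors n (PicF.XT f (TK k N))) = n ^ (2 * Curv2.genus k X) := by
    refine le_antisymm (hks ▸ Nat.card_le_card_of_injective _ (Tors.map_TKmap_injective hf hσ N.val)) ?_
    exact hcard₀ ▸ Nat.card_le_card_of_injective _
      (Tors.map_TKmap_injective hf hσ (IntermediateField.inclusion L₀.le_normalClosure))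
  let ρ := galTors f n N
  let L : IntermediateField k N := IntermediateField.fixedField ρ.ker
  have hsurj : ∀ c : Tors n (PicF.XT f (TK k N)), ∃ d : Tors n (PicF.XT f (TK k L)),
      Tors.map (PicF.XTmap f (TKmap L.val)) d = c := by
    intro c
    have hinv : ∀ g : N ≃ₐ[L] N,
        pull (PicF.XTmap f (TKmap ((g : N →ₐ[L] N).restrictScalars k))) c.1 = c.1 := by
      intro g
      have hg : g.restrictScalars k ∈ ρ.ker := by
        rw [← IntermediateField.fixingSubgroup_fixedField ρ.ker, IntermediateField.mem_fixingSubgroup_iff]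
        exact fun x hx => g.commutes (⟨x, hx⟩ : L)
      exact congrArg Subtype.val (congrArg (fun p : Equiv.Perm _ => p c) (MonoidHom.mem_ker.1 hg))
    obtain ⟨d, hd⟩ := exists_descend hf hσ c.1 hinv
    refine ⟨⟨d, pull_TKmap_injective hf hσ (IsScalarTower.toAlgHom k L N) ?_⟩, Subtype.ext hd⟩
    rw [map_pow, hd, c.2, map_one]
  refine ⟨L, inferInstance, inferInstance, inferInstance,
    Algebra.isSeparable_tower_bot_of_isSeparable k L N, ?_,
    (Nat.card_congr (Equiv.ofBijective _ ⟨Tors.map_TKmap_injective hf hσ L.val, hsurj⟩)).trans hN⟩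
  have h1 : Module.finrank k L * Module.finrank L N = Nat.card (N ≃ₐ[k] N) :=
    (Module.finrank_mul_finrank k L N).trans (IsGalois.card_aut_eq_finrank k N).symm
  rw [IntermediateField.finrank_fixedField_eq_card, ← ρ.ker.index_mul_card] at h1
  have h2 : Module.finrank k L = ρ.ker.index := Nat.eq_of_mul_eq_mul_right Nat.card_pos h1
  rw [h2, Subgroup.index_ker]
  refine le_trans (Nat.card_le_card_of_injective _ Subtype.val_injective) ?_
  rw [Nat.card_perm, hN]

variable (k X) in
/-- A point over a separable extension of degree at most `2g - 2`. -/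
theorem exists_sep_point_bound [X.Over (Spec (CommRingCat.of k))]
    [IsIntegral X] [IsProper (X ↘ Spec (CommRingCat.of k))] [Smooth (X ↘ Spec (CommRingCat.of k))]
    (hdim : topologicalKrullDim X = 1)
    (h0 : Module.finrank k (Coh.HH X (Coh.structureModule X) 0) = 1) (hg : 2 ≤ Curv2.genus k X) :
    ∃ (k₁ : Type u) (_ : Field k₁) (_ : Algebra k k₁), FiniteDimensional k k₁ ∧ Algebra.IsSeparable k k₁ ∧
      Module.finrank k k₁ ≤ 2 * Curv2.genus k X - 2 ∧
      ∃ x : Spec (CommRingCat.of k₁) ⟶ Curv2.bc k X k₁, x ≫ Curv2.bcSnd k X k₁ = 𝟙 _ := by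
  obtain ⟨P, hPsep, hPdeg⟩ := Groth.CurveBridge.exists_separable_place k X hdim h0 hg
  have h : Groth.CurveBridge.IsRegCurve X := Groth.CurveBridge.isRegCurve_of_smooth k X hdim
  obtain ⟨x, rfl⟩ := Groth.CurveBridge.placeAt_surjective (k := k) h P
  haveI := hPsep
  letI := Curv2.resAlgebra k X x.1
  have hfr := Groth.CurveBridge.finrank_residueField (k := k) h x
  refine ⟨X.residueField x.1, inferInstance, Curv2.resAlgebra k X x.1, ?_, ?_, hfr.trans_le hPdeg, ?_⟩
  · exact Module.finite_of_finrank_pos (R := k) (M := X.residueField x.1)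
      (by rw [hfr]; exact (Groth.CurveBridge.isFF k X hdim).deg_pos _)
  · convert Groth.CurveBridge.isSeparable_residueField (k := k) h x
  · exact ⟨pullback.lift (X.fromSpecResidueField x.1) (𝟙 _) (by
      rw [Category.id_comp]
      exact Groth.VarietyBC.fromSpecResidueField_str (k := k) x.1), pullback.lift_snd _ _ _⟩

end Groth.ModelsGraphs.PicDim
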