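import Groth.Agent.ModelsGraphs.PicDim.PicZero
import Groth.Agent.PicCurve.RelPicBC
import Groth.Agent.PicCurve.DegLocus
import Groth.Agent.CohTwo.FieldExtension

/-!
# A scheme representing the degree zero part of the Picard functor of a family of curves has
fibres of dimension the genus
-/

set_option autoImplicit false

universe u

open CategoryTheory CategoryTheory.Limits AlgebraicGeometry TopologicalSpace Opposite
open Groth.Abvar.PicCalc
open Groth.PicCurve
open Groth.PicCurve.RelBC

set_option maxHeartbeats 1600000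
set_option backward.isDefEq.respectTransparency false
set_option backward.defeqAttrib.useBackward true
set_option backward.isDefEq.respectTransparency.types false

namespace Groth.ModelsGraphs.PicDim

section BaseChange

variable {X S S' : Scheme.{u}} {f : X ⟶ S} {h : S' ⟶ S}
  [IsProper f] [Smooth f] [GeometricallyConnected f]

theorem dim_fiber_bc (hdim : ∀ s : S, topologicalKrullDim ↥(f.fiber s) = 1) (s' : S') :
    topologicalKrullDim ↥((pullback.snd f h).fiber s') = 1 :=
  (dim_fiber_of_isPullback (IsPullback.of_hasPullback f h) s').trans (hdim _)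

theorem hyps_bc : IsProper (pullback.snd f h) ∧ Smooth (pullback.snd f h) ∧
    GeometricallyConnected (pullback.snd f h) :=
  ⟨MorphismProperty.pullback_snd (P := @IsProper) _ _ ‹_›,
    MorphismProperty.pullback_snd (P := @Smooth) _ _ ‹_›,
    MorphismProperty.pullback_snd (P := @GeometricallyConnected) _ _ ‹_›⟩

theorem xtIso_sq (T : Over S') :
    IsPullback (xtIso f h T).hom (PicF.XTproj (pullback.snd f h) T)
      (PicF.XTproj f (toBase h T)) (𝟙 T.left) :=
  IsPullback.of_horiz_isIso ⟨by rw [Category.comp_id]; exact xtIso_proj f h T⟩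

theorem isPicZeroCl_inv (hdim : ∀ s : S, topologicalKrullDim ↥(f.fiber s) = 1) {T : Over S'}
    {c : PicF.Cl (PicF.XT (pullback.snd f h) T)} (hc : AbDual.IsPicZeroCl (pullback.snd f h) T c) :
    AbDual.IsPicZeroCl f (toBase h T) (PicF.pullCl (xtIso f h T).inv c) := by
  obtain ⟨_, _, _⟩ := hyps_bc (f := f) (h := h)
  obtain ⟨_, _, _⟩ := family_hyps (f := f) (toBase h T)
  obtain ⟨L, rfl, hL, h'⟩ := hc
  refine (isPicZeroCl_iff hdim (toBase h T) (pull (xtIso f h T).inv (cls hL))).2 fun t => ?_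
  have h0 : ∀ z, degC (PicF.XTproj (pullback.snd f h) T) (cls hL) z = 0 :=
    (isPicZeroCl_iff (dim_fiber_bc hdim) T (cls hL)).1 ⟨L, rfl, hL, h'⟩
  have := degC_baseChange (PicF.XTproj f (toBase h T)) (xtIso_sq T) (pull (xtIso f h T).inv (cls hL)) t
  rw [← pull_comp, Iso.hom_inv_id, pull_id, h0] at this
  exact this.symm

theorem isPicZeroCl_hom (hdim : ∀ s : S, topologicalKrullDim ↥(f.fiber s) = 1) {T : Over S'}
    {c : PicF.Cl (PicF.XT f (toBase h T))} (hc : AbDual.IsPicZeroCl f (toBase h T) c) :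
    AbDual.IsPicZeroCl (pullback.snd f h) T (PicF.pullCl (xtIso f h T).hom c) := by
  obtain ⟨_, _, _⟩ := hyps_bc (f := f) (h := h)
  obtain ⟨_, _, _⟩ := family_hyps (f := f) (toBase h T)
  obtain ⟨L, rfl, hL, h'⟩ := hc
  refine (isPicZeroCl_iff (dim_fiber_bc hdim) T (pull (xtIso f h T).hom (cls hL))).2 fun t => ?_
  rw [degC_baseChange (PicF.XTproj f (toBase h T)) (xtIso_sq T)]
  exact (isPicZeroCl_iff hdim (toBase h T) (cls hL)).1 ⟨L, rfl, hL, h'⟩ _

theorem isPicZeroCl_map (hdim : ∀ s : S, topologicalKrullDim ↥(f.fiber s) = 1) {T T' : Over S}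
    (g : T' ⟶ T) {c : PicF.Cl (PicF.XT f T)} (hc : AbDual.IsPicZeroCl f T c) :
    AbDual.IsPicZeroCl f T' (PicF.pullCl (PicF.XTmap f g) c) := by
  obtain ⟨_, _, _⟩ := family_hyps (f := f) T
  obtain ⟨L, rfl, hL, h'⟩ := hc
  refine (isPicZeroCl_iff hdim T' (pull (PicF.XTmap f g) (cls hL))).2 fun t => ?_
  rw [degC_baseChange (PicF.XTproj f T) (XTmap_sq f g)]
  exact (isPicZeroCl_iff hdim T (cls hL)).1 ⟨L, rfl, hL, h'⟩ _

/-- Base change of a scheme representing the sheafified degree zero part. -/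
theorem isRelPicZeroK_bc (hdim : ∀ s : S, topologicalKrullDim ↥(f.fiber s) = 1)
    {P : Over S} {φ : ∀ T : Over S, PicF.Cl (PicF.XT f T) → (T ⟶ P)}
    (hP : AbDual.IsRelPicZeroK Scheme.fppfPrecoverage f P φ) :
    AbDual.IsRelPicZeroK Scheme.fppfPrecoverage (pullback.snd f h) (Over.mk (pullback.snd P.hom h))
      (RelBC.phi h φ) := by
  have hext : ∀ {T : Over S'} {p q : T ⟶ Over.mk (pullback.snd P.hom h)},
      p.left ≫ pullback.fst P.hom h = q.left ≫ pullback.fst P.hom h → p = q := fun {T} {p q} e =>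
    Over.OverMorphism.ext (pullback.hom_ext e ((Over.w p).trans (Over.w q).symm))
  refine ⟨fun T T' g c hc => hext ?_, fun T g => ?_, fun T c c' hc hc' e => ?_⟩
  · rw [phi_fst, Over.comp_left, Category.assoc, phi_fst,
      show g.left = (toBaseHom h g).left from rfl, ← Over.comp_left,
      ← hP.natural _ _ _ _ (isPicZeroCl_inv hdim hc), pullCl_pullCl, pullCl_pullCl]
    congr 3
    rw [Iso.inv_comp_eq, ← Category.assoc, ← xtIso_map, Category.assoc, Iso.hom_inv_id,
      Category.comp_id]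
  · let g₁ : toBase h T ⟶ P := Over.homMk (g.left ≫ pullback.fst P.hom h) (by
      show (g.left ≫ pullback.fst P.hom h) ≫ P.hom = T.hom ≫ h
      rw [Category.assoc, pullback.condition, ← Category.assoc]
      exact congrArg (· ≫ h) (Over.w g))
    obtain ⟨R, hR, hRc⟩ := hP.locallySurjective (toBase h T) g₁
    refine ⟨R, hR, fun U u hu => ?_⟩
    obtain ⟨c, hc, hcu⟩ := hRc u hu
    let k : toBase h (AbDual.ovr T u) ⟶ AbDual.ovr (toBase h T) u :=
      Over.homMk (𝟙 U) (by simp)
    refine ⟨PicF.pullCl (xtIso f h _).hom (PicF.pullCl (PicF.XTmap f k) c),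
      isPicZeroCl_hom hdim (isPicZeroCl_map hdim k hc), hext ?_⟩
    rw [phi_fst, pullCl_pullCl, pullCl_pullCl, Iso.inv_hom_id, Category.id_comp,
      hP.natural _ _ k c hc, hcu]
    simp [k, g₁]
  · have e' : φ (toBase h T) (PicF.pullCl (xtIso f h T).inv c) =
        φ (toBase h T) (PicF.pullCl (xtIso f h T).inv c') := by
      ext1
      rw [← phi_fst, ← phi_fst, e]
    obtain ⟨R, hR, hRc⟩ := hP.locallyInjective _ _ _ (isPicZeroCl_inv hdim hc) (isPicZeroCl_inv hdim hc') e'
    refine ⟨R, hR, fun U u hu => ?_⟩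
    let k : toBase h (AbDual.ovr T u) ⟶ AbDual.ovr (toBase h T) u :=
      Over.homMk (𝟙 U) (by simp)
    have hk : k ≫ AbDual.ovrHom (toBase h T) u = toBaseHom h (AbDual.ovrHom T u) :=
      Over.OverMorphism.ext (Category.id_comp _)
    have h1 := congrArg (fun a => PicF.pullCl (xtIso f h _).hom (PicF.pullCl (PicF.XTmap f k) a))
      (hRc u hu)
    simp only [pullCl_pullCl, Category.assoc] at h1
    rw [← Category.assoc (PicF.XTmap f k), ← XTmap_comp', hk] at h1
    rwa [← reassoc_of% (xtIso_map f h (AbDual.ovrHom T u)), Iso.hom_inv_id, Category.comp_id] at h1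

end BaseChange

section Field

variable {k : Type u} [Field k] [IsSepClosed k] {X : Scheme.{u}} {f : X ⟶ Spec (CommRingCat.of k)}
  [IsProper f] [Smooth f] [GeometricallyConnected f]

/-- Over a separably closed field with a rational point it has dimension the genus. -/
theorem dim_of_isRelPicZeroK (hdim : ∀ s, topologicalKrullDim ↥(f.fiber s) = 1) (hf : IsPtCurve f)
    (σ : Spec (CommRingCat.of k) ⟶ X) (hσ : σ ≫ f = 𝟙 _)
    {P : Over (Spec (CommRingCat.of k))}
    {φ : ∀ T : Over (Spec (CommRingCat.of k)), PicF.Cl (PicF.XT f T) → (T ⟶ P)}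
    (hP : AbDual.IsRelPicZeroK Scheme.fppfPrecoverage f P φ) :
    topologicalKrullDim P.left = genus f := by
  obtain ⟨J, -, -, e, -, hnat, -, -, -, hd⟩ := exists_picZero hf hσ
  rw [← hd]
  have hz : ∀ {T : Over (Spec (CommRingCat.of k))} {c : PicLoc.PicSet (PicF.XT f T)},
      (∀ t, degC (PicF.XTproj f T) c t = 0) → AbDual.IsPicZeroCl f T c.1 :=
    fun {T} {c} h => (isPicZeroCl_iff hdim T c).2 h
  let a : J ⟶ P := φ J (e J (𝟙 J)).1.1
  have ha : ∀ {T : Over (Spec (CommRingCat.of k))} (x : T ⟶ J), x ≫ a = φ T (e T x).1.1 := fun {T} x => by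
    have h1 := hnat J T x (𝟙 J)
    rw [Category.comp_id] at h1
    rw [h1]
    exact (hP.natural J T x _ (hz (e J (𝟙 J)).2.2)).symm
  have hmono : ∀ {T : Over (Spec (CommRingCat.of k))} (x y : T ⟶ J), x ≫ a = y ≫ a → x = y := by
    intro T x y hxy
    rw [ha, ha] at hxy
    obtain ⟨R, hR, hRc⟩ := hP.locallyInjective T _ _ (hz (e T x).2.2) (hz (e T y).2.2) hxy
    refine Over.OverMorphism.ext (hom_ext_of_fppfCover hR _ _ fun U u hu => ?_)
    refine congrArg (fun m : AbDual.ovr T u ⟶ J => m.left)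
      (show AbDual.ovrHom T u ≫ x = AbDual.ovrHom T u ≫ y from (e _).injective (Subtype.ext ?_))
    rw [hnat, hnat]
    exact Subtype.ext (hRc u hu)
  haveI : Mono a.left := ⟨fun {Z} p q hpq => by
    let T : Over (Spec (CommRingCat.of k)) := Over.mk (p ≫ J.hom)
    let x : T ⟶ J := Over.homMk p rfl
    let y : T ⟶ J := Over.homMk q (by
      show q ≫ J.hom = p ≫ J.hom
      rw [← Over.w a, reassoc_of% hpq])
    exact congrArg (fun m : T ⟶ J => m.left) (hmono x y (Over.OverMorphism.ext hpq))⟩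
  obtain ⟨R, hR, hRc⟩ := hP.locallySurjective P (𝟙 P)
  obtain ⟨s, hs⟩ := exists_lift_of_cover a.left hR (𝟙 P.left) fun U u hu => by
    obtain ⟨c, hc, hcu⟩ := hRc u hu
    obtain ⟨L, rfl, hL, hL'⟩ := hc
    let T := AbDual.ovr P u
    have h0 : ∀ t, degC (PicF.XTproj f T) (cls hL) t = 0 :=
      (isPicZeroCl_iff hdim T (cls hL)).1 ⟨L, rfl, hL, hL'⟩
    let d := PicCurve.norm f σ hσ T (cls hL)
    have hd0 : ∀ t, degC (PicF.XTproj f T) d.1 t = 0 := fun t => (degC_norm hf _ t).trans (h0 t)
    let x : T ⟶ J := (e T).symm ⟨d.1, d.2, hd0⟩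
    refine ⟨x.left, ?_⟩
    have hxa : x ≫ a = φ T (cls hL).1 := by
      rw [ha, show e T x = ⟨d.1, d.2, hd0⟩ from Equiv.apply_symm_apply _ _]
      -- the normalisation agrees with the class locally on the base
      obtain ⟨M, hM, hMe⟩ := PicGrp.exists_eq_cls (pull (PicF.secT f σ hσ T) (cls hL))
      choose V hyV hV using fun t : T.left => exists_trivializing (pull (PicF.secT f σ hσ T) (cls hL)) t
      have hcov : IsOpenCover V := eq_top_iff.2 fun t _ => Opens.mem_iSup.2 ⟨t, hyV t⟩
      refine Over.OverMorphism.ext (Scheme.Cover.hom_ext (T.left.openCoverOfIsOpenCover V hcov) _ _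
        fun i => congrArg (fun m : opn T (V i) ⟶ P => m.left) (?_ :
          opnHom T (V i) ≫ φ T d.1.1 = opnHom T (V i) ≫ φ T (cls hL).1))
      rw [← hP.natural _ _ _ _ (hz hd0), ← hP.natural _ _ _ _ (hz h0)]
      refine congrArg (φ _) (congrArg Subtype.val
        (show pull (PicF.XTmap f (opnHom T (V i))) d.1 = pull _ (cls hL) from ?_))
      show pull _ (cls hL * _) = _
      rw [map_mul, map_inv, pull_base_opn (V i) _ (hV i), inv_one, mul_one]
    have := congrArg (fun m : T ⟶ P => m.left) (hxa.trans hcu)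
    simpa using this
  haveI : IsIso a.left := ⟨s, (cancel_mono a.left).1 (by rw [Category.assoc, hs, Category.comp_id, Category.id_comp]), hs⟩
  exact a.left.homeomorph.isHomeomorph.topologicalKrullDim_eq.symm

end Field

/-- The fibres have dimension the genus. -/
theorem krullDim_fiber_picZero {C S : Scheme.{u}} (f : C ⟶ S)
    [IsProper f] [Smooth f] [GeometricallyConnected f]
    (hdim : ∀ s : S, topologicalKrullDim ↥(f.fiber s) = 1)
    (P₀ : Over S) (φ₀ : ∀ T : Over S, PicF.Cl (PicF.XT f T) → (T ⟶ P₀))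
    (hP₀ : AbDual.IsRelPicZeroK Scheme.fppfPrecoverage f P₀ φ₀) [LocallyOfFiniteType P₀.hom] (s : S) :
    topologicalKrullDim ↥(P₀.hom.fiber s) = (CohIII.fiberRank f (Coh.structureModule C) 1 s : WithBot ℕ∞) := by
  let K := S.residueField s
  let Ω := AlgebraicClosure K
  let h : Spec (CommRingCat.of Ω) ⟶ S :=
    Spec.map (CommRingCat.ofHom (algebraMap K Ω)) ≫ S.fromSpecResidueField s
  let z : Spec (CommRingCat.of Ω) := IsLocalRing.closedPoint Ω
  have hs : h z = s := Scheme.fromSpecResidueField_apply s _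
  obtain ⟨_, _, _⟩ := hyps_bc (f := f) (h := h)
  let f' := pullback.snd f h
  let X := pullback f h
  letI : X.Over (Spec (CommRingCat.of Ω)) := ⟨f'⟩
  haveI : IsProper (X ↘ Spec (CommRingCat.of Ω)) := inferInstanceAs (IsProper f')
  haveI : Smooth (X ↘ Spec (CommRingCat.of Ω)) := inferInstanceAs (Smooth f')
  haveI : ConnectedSpace ↥X := GeometricallyConnected.connectedSpace_of_subsingleton (f := f')
  haveI hint : IsIntegral X := Groth.CurveBridge.isIntegral_of_smooth Ω X
  have homeo : ∀ {Y : Scheme.{u}} (q : Y ⟶ Spec (CommRingCat.of Ω)),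
      topologicalKrullDim ↥(q.fiber z) = topologicalKrullDim ↥Y := fun {Y} q => by
    have hu : q ⁻¹' {z} = Set.univ :=
      Set.eq_univ_of_forall fun _ => Subsingleton.elim (α := PrimeSpectrum Ω) _ _
    exact ((q.fiberHomeo z).trans ((Homeomorph.setCongr hu).trans
      (Homeomorph.Set.univ _))).isHomeomorph.topologicalKrullDim_eq
  have hdim' : ∀ y, topologicalKrullDim ↥(f'.fiber y) = 1 := dim_fiber_bc hdim
  have hX : topologicalKrullDim ↥X = 1 := (homeo f').symm.trans (hdim' z)
  haveI : JacobsonSpace ↥X := LocallyOfFiniteType.jacobsonSpace f'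
  obtain ⟨x, -, hx⟩ := nonempty_inter_closedPoints (Z := (Set.univ : Set ↥X)) Set.univ_nonempty
    isOpen_univ.isLocallyClosed
  let σ := pointOfClosedPoint f' x hx
  have hσ : σ ≫ f' = 𝟙 _ := pointOfClosedPoint_comp f' x hx
  have hf : IsPtCurve f' := isPtCurve ⟨inferInstance, inferInstance, hint, hX⟩ σ hσ
  have h1 := dim_of_isRelPicZeroK (φ := RelBC.phi h φ₀) hdim' hf σ hσ (isRelPicZeroK_bc hdim hP₀)
  have h2 := dim_fiber_of_isPullback (IsPullback.of_hasPullback P₀.hom h) z
  rw [homeo, hs] at h2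
  rw [← h2]
  refine h1.trans (congrArg Nat.cast ?_)
  obtain ⟨e⟩ := Groth.PicAux.pullback_structure_iso (pullback.fst f h)
  have : (Coh.structureModule C).IsQuasicoherent :=
    (model_hyps (π := f) (L := Coh.structureModule C) (PicLoc.isInvertible_structureModule C)).1
  have hb := Groth.CohTwo.betti_baseChange (IsPullback.of_hasPullback f h) (Coh.structureModule C) z 1
  letI : (f'.fiber z).Over (Spec (CommRingCat.of ((Spec (CommRingCat.of Ω)).residueField z))) :=
    ⟨f'.fiberToSpecResidueField z⟩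
  refine (Eq.trans ?_ hb).trans (congrArg (CohIII.fiberRank f (Coh.structureModule C) 1) hs)
  exact (Groth.EulerDeg.finrank_congr (k := (Spec (CommRingCat.of Ω)).residueField z)
    ((Scheme.Modules.pullback (f'.fiberι z)).mapIso e) 1).symm

end Groth.ModelsGraphs.PicDim
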