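import Groth.Agent.ModelsGraphs.PicDiv.Smooth
import Groth.Agent.PicAux.RigClasses
import Groth.Agent.PicCurve.Setup
import Mathlib.RingTheory.Unramified.Field
import Mathlib.FieldTheory.IntermediateField.Adjoin.Algebra
import Mathlib.AlgebraicGeometry.Morphisms.FormallyUnramified

/-!
# Finite stages of field-valued points, and classes under extensions of fields

* `exists_stage`: a point with values in an algebraic extension is defined over a finite stage,
  separable for a formally unramified scheme.
* `pull_TKmap_injective`: classes on a pointed curve inject under extensions of fields.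
-/

set_option autoImplicit false

universe u

open CategoryTheory CategoryTheory.Limits AlgebraicGeometry TopologicalSpace Opposite
open Groth.Abvar.PicCalc
open Groth.PicCurve
open Groth.ModelsGraphs.PicDiv (pic_specField)

set_option maxHeartbeats 800000
set_option backward.isDefEq.respectTransparency false
set_option backward.defeqAttrib.useBackward true
set_option backward.isDefEq.respectTransparency.types false

namespace Groth.ModelsGraphs.PicDim

variable {k : Type u} [Field k]

/-- The spectrum of an extension as a scheme over the base field. -/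
noncomputable def TK (k : Type u) [Field k] (K : Type u) [Field K] [Algebra k K] :
    Over (Spec (CommRingCat.of k)) :=
  Over.mk (Spec.map (CommRingCat.ofHom (algebraMap k K)))

/-- The map of spectra of an embedding of extensions. -/
noncomputable def TKmap {K K' : Type u} [Field K] [Field K'] [Algebra k K] [Algebra k K']
    (φ : K →ₐ[k] K') : TK k K' ⟶ TK k K :=
  Over.homMk (Spec.map (CommRingCat.ofHom φ.toRingHom)) (by
    show Spec.map _ ≫ Spec.map _ = Spec.map _
    rw [← Spec.map_comp, ← CommRingCat.ofHom_comp]
    exact congrArg (fun r => Spec.map (CommRingCat.ofHom r)) φ.comp_algebraMap)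

instance {K : Type u} [Field K] [Algebra k K] : Subsingleton (TK k K).left :=
  inferInstanceAs (Subsingleton (PrimeSpectrum K))

instance {K : Type u} [Field K] [Algebra k K] : IsReduced (TK k K).left :=
  inferInstanceAs (IsReduced (Spec (CommRingCat.of K)))

theorem TKmap_comp {K K' K'' : Type u} [Field K] [Field K'] [Field K''] [Algebra k K] [Algebra k K']
    [Algebra k K''] (φ : K →ₐ[k] K') (ψ : K' →ₐ[k] K'') :
    TKmap ψ ≫ TKmap φ = TKmap (ψ.comp φ) :=
  Over.OverMorphism.ext ((Spec.map_comp _ _).symm.trans rfl)

/-- A point with values in an algebraic extension comes from a finite stage. -/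
theorem exists_stage {P : Scheme.{u}} (q : P ⟶ Spec (CommRingCat.of k)) [LocallyOfFiniteType q]
    {Ω : Type u} [Field Ω] [Algebra k Ω] [Algebra.IsAlgebraic k Ω]
    (t : Spec (CommRingCat.of Ω) ⟶ P) (ht : t ≫ q = Spec.map (CommRingCat.ofHom (algebraMap k Ω))) :
    ∃ (L : IntermediateField k Ω), FiniteDimensional k L ∧
      (FormallyUnramified q → Algebra.IsSeparable k L) ∧
      ∃ s : Spec (CommRingCat.of L) ⟶ P, s ≫ q = Spec.map (CommRingCat.ofHom (algebraMap k L)) ∧
        Spec.map (CommRingCat.ofHom L.val.toRingHom) ≫ s = t := by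
  let pt : Spec (CommRingCat.of Ω) := IsLocalRing.closedPoint Ω
  obtain ⟨_, ⟨V, hV, rfl⟩, hpV, -⟩ :=
    P.isBasis_affineOpens.exists_subset_of_mem_open (Set.mem_univ (t pt)) isOpen_univ
  have hr : Set.range t ⊆ Set.range hV.fromSpec := by
    rintro _ ⟨y, rfl⟩
    rw [IsAffineOpen.range_fromSpec, Subsingleton.elim (α := PrimeSpectrum Ω) y pt]
    exact hpV
  obtain ⟨φ, hφ⟩ : ∃ φ : Γ(P, V) ⟶ CommRingCat.of Ω, Spec.map φ ≫ hV.fromSpec = t :=
    ⟨Spec.preimage (IsOpenImmersion.lift hV.fromSpec t hr),
      by rw [Spec.map_preimage, IsOpenImmersion.lift_fac]⟩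
  obtain ⟨c, hc⟩ : ∃ c : CommRingCat.of k ⟶ Γ(P, V), Spec.map c = hV.fromSpec ≫ q :=
    ⟨Spec.preimage _, Spec.map_preimage _⟩
  let A : Type u := Γ(P, V)
  letI : Algebra k A := c.hom.toAlgebra
  have hcφ : c ≫ φ = CommRingCat.ofHom (algebraMap k Ω) := Spec.map_injective (by
    rw [Spec.map_comp, hc, ← Category.assoc, hφ, ht])
  let ψ : A →ₐ[k] Ω :=
    { (φ.hom : A →+* Ω) with commutes' := fun a => congrArg (fun m => m.hom a) hcφ }
  have hft : Algebra.FiniteType k A := by
    have h : LocallyOfFiniteType (Spec.map c) := by rw [hc]; infer_instance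
    exact (HasRingHomProperty.Spec_iff (P := @LocallyOfFiniteType)).1 h
  obtain ⟨S, hS⟩ := hft.1
  classical
  let T : Finset Ω := S.image ψ
  let L : IntermediateField k Ω := IntermediateField.adjoin k (T : Set Ω)
  have hrange : L.toSubalgebra = ψ.range := by
    rw [IntermediateField.adjoin_toSubalgebra_of_isAlgebraic (fun x _ => Algebra.IsAlgebraic.isAlgebraic x),
      Finset.coe_image, ← AlgHom.map_adjoin, hS, Algebra.map_top]
  have hfin : FiniteDimensional k L :=
    IntermediateField.finiteDimensional_adjoin fun x _ => (Algebra.IsAlgebraic.isAlgebraic x).isIntegral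
  let ψL : A →ₐ[k] L :=
    (ψ.codRestrict L.toSubalgebra fun a => hrange.ge ⟨a, rfl⟩)
  have hψL : Function.Surjective ψL := fun y => by
    obtain ⟨a, ha⟩ := hrange.le y.2
    exact ⟨a, Subtype.ext ha⟩
  refine ⟨L, hfin, fun hq => ?_, Spec.map (CommRingCat.ofHom ψL.toRingHom) ≫ hV.fromSpec, ?_, ?_⟩
  · haveI : FormallyUnramified hV.fromSpec := inferInstance
    have h : FormallyUnramified (Spec.map c) := by
      rw [hc]
      exact MorphismProperty.comp_mem @FormallyUnramified _ _ ‹_› hq
    have : Algebra.FormallyUnramified k A :=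
      (HasRingHomProperty.Spec_iff (P := @FormallyUnramified)).1 h
    have : Algebra.FormallyUnramified k L := Algebra.FormallyUnramified.of_surjective ψL hψL
    have : Algebra.EssFiniteType k L := inferInstance
    exact Algebra.FormallyUnramified.isSeparable k L
  · rw [Category.assoc, ← hc, ← Spec.map_comp]
    congr 1
    exact CommRingCat.hom_ext (RingHom.ext fun a => ψL.commutes a)
  · rw [← hφ, ← Category.assoc, ← Spec.map_comp]
    rfl

section Classes

variable {X : Scheme.{u}} {f : X ⟶ Spec (CommRingCat.of k)}
  {σ : Spec (CommRingCat.of k) ⟶ X}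

theorem pic_TK {K : Type u} [Field K] [Algebra k K] (c : PicLoc.PicSet (TK k K).left) : c = 1 :=
  pic_specField (k := K) c

/-- Classes on a pointed curve inject under extensions of fields. -/
theorem pull_TKmap_injective (hf : IsPtCurve f) (hσ : σ ≫ f = 𝟙 _) {K K' : Type u} [Field K] [Field K']
    [Algebra k K] [Algebra k K'] (φ : K →ₐ[k] K') :
    Function.Injective (pull (PicF.XTmap f (TKmap φ))) := by
  intro a b hab
  let v := TKmap φ
  haveI : Surjective v.left := ⟨fun y => ⟨(IsLocalRing.closedPoint K' : Spec (CommRingCat.of K')),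
    Subsingleton.elim _ _⟩⟩
  haveI : Flat v.left := by
    show Flat (Spec.map (CommRingCat.ofHom φ.toRingHom))
    rw [HasRingHomProperty.Spec_iff (P := @Flat)]
    letI := φ.toRingHom.toAlgebra
    show RingHom.Flat φ.toRingHom
    exact RingHom.flat_algebraMap_iff.2 inferInstance
  haveI : QuasiCompact v.left := inferInstanceAs (QuasiCompact (Spec.map _))
  have hsq := (PicCurve.XTmap_sq f v).flip
  haveI : Flat (PicF.XTmap f v) := MorphismProperty.of_isPullback (P := @Flat) hsq ‹_›
  haveI : Surjective (PicF.XTmap f v) := MorphismProperty.of_isPullback (P := @Surjective) hsq ‹_›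
  haveI : QuasiCompact (PicF.XTmap f v) := MorphismProperty.of_isPullback (P := @QuasiCompact) hsq ‹_›
  have hq : Presieve.ofArrows (fun _ : PUnit.{u + 1} => PicF.XT f (TK k K'))
      (fun _ => PicF.XTmap f v) ∈ Scheme.fpqcPrecoverage (PicF.XT f (TK k K)) := by
    rw [Presieve.ofArrows_pUnit]
    exact Scheme.Hom.singleton_mem_fpqcPrecoverage _
  let a' : RS f σ hσ (TK k K) := ⟨a, pic_TK _⟩
  let b' : RS f σ hσ (TK k K) := ⟨b, pic_TK _⟩
  exact congrArg Subtype.val (Groth.PicAux.RigDescent.map_injective v hq (hf.constFun _ ⊤)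
    (show a'.map v = b'.map v from Subtype.ext hab))

end Classes

end Groth.ModelsGraphs.PicDim
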